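import Mathlib

/-!
Fixed point ratio calculus for S5717: `fpr Ω A` is the proportion of the points of the
finite `G`-set `Ω` fixed by all elements of `A ⊆ G`.
-/

set_option autoImplicit false

namespace Cfsg.Agent.H917.FP

open scoped Pointwise

section Def

variable {G : Type*} [Group G] (Ω : Type*) [MulAction G Ω]

/-- the proportion of points of `Ω` fixed by every element of `A`. -/
noncomputable def fpr (A : Set G) : ℝ :=
  (Nat.card {w : Ω // ∀ a ∈ A, a • w = w} : ℝ) / (Nat.card Ω : ℝ)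

theorem fpr_nonneg (A : Set G) : 0 ≤ fpr Ω A := by
  unfold fpr; positivity

theorem fpr_le_one [Finite Ω] (A : Set G) : fpr Ω A ≤ 1 := by
  unfold fpr
  apply div_le_one_of_le₀ _ (by positivity)
  exact_mod_cast Nat.card_le_card_of_injective (fun w : {w : Ω // ∀ a ∈ A, a • w = w} => w.1)
    Subtype.val_injective

theorem fpr_anti [Finite Ω] {A B : Set G} (h : A ⊆ B) : fpr Ω B ≤ fpr Ω A := by
  unfold fpr
  gcongr
  exact Nat.card_le_card_of_injective
    (fun w : {w : Ω // ∀ a ∈ B, a • w = w} =>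
      (⟨w.1, fun a ha => w.2 a (h ha)⟩ : {w : Ω // ∀ a ∈ A, a • w = w}))
    (fun a b hab => Subtype.ext (by simpa using hab))

theorem fpr_closure (A : Set G) :
    fpr Ω (Subgroup.closure A : Set G) = fpr Ω A := by
  unfold fpr
  congr 2
  refine Nat.card_congr (Equiv.subtypeEquivRight fun w => ?_)
  constructor
  · exact fun h a ha => h a (Subgroup.subset_closure ha)
  · intro h a ha
    have : Subgroup.closure A ≤ MulAction.stabilizer G w := by
      rw [Subgroup.closure_le]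
      exact fun a ha => h a ha
    exact this ha

theorem fpr_closure_le [Finite Ω] {A B : Set G} (h : A ⊆ (Subgroup.closure B : Set G)) :
    fpr Ω B ≤ fpr Ω A := by
  rw [← fpr_closure Ω B]
  exact fpr_anti Ω h

theorem fpr_conj (A : Set G) (g : G) :
    fpr Ω ((fun a => g * a * g⁻¹) '' A) = fpr Ω A := by
  unfold fpr
  congr 2
  refine Nat.card_congr ⟨fun w => ⟨g⁻¹ • w.1, ?_⟩, fun w => ⟨g • w.1, ?_⟩, ?_, ?_⟩
  · intro a ha
    have h := w.2 (g * a * g⁻¹) ⟨a, ha, rfl⟩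
    rw [smul_smul, show a * g⁻¹ = g⁻¹ * (g * a * g⁻¹) by group, mul_smul, h]
  · rintro _ ⟨a, ha, rfl⟩
    have h := w.2 a ha
    simp only [mul_smul, inv_smul_smul, h]
  · intro w; simp
  · intro w; simp

/-- the indicator of the fixed point set. -/
noncomputable def ind (A : Set G) (w : Ω) : ℝ :=
  open Classical in if ∀ a ∈ A, a • w = w then 1 else 0

theorem sum_ind [Fintype Ω] (A : Set G) :
    ∑ w : Ω, ind Ω A w = fpr Ω A * (Nat.card Ω : ℝ) := by
  classical
  unfold fpr ind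
  rcases Nat.eq_zero_or_pos (Nat.card Ω) with h0 | h0
  · have : IsEmpty Ω := by
      rcases Nat.card_eq_zero.mp h0 with h | h
      · exact h
      · exact absurd (inferInstance : Finite Ω) (not_finite_iff_infinite.mpr h)
    simp
  · rw [div_mul_cancel₀ _ (by exact_mod_cast h0.ne')]
    rw [Finset.sum_boole, Nat.card_eq_fintype_card, Fintype.card_subtype]

theorem ind_mul (A B : Set G) (w : Ω) : ind Ω A w * ind Ω B w = ind Ω (A ∪ B) w := by
  classical
  unfold ind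
  by_cases h1 : ∀ a ∈ A, a • w = w
  · by_cases h2 : ∀ a ∈ B, a • w = w
    · have h3 : ∀ a ∈ A ∪ B, a • w = w := by
        rintro a (ha | ha)
        · exact h1 a ha
        · exact h2 a ha
      rw [if_pos h1, if_pos h2, if_pos h3, mul_one]
    · have h3 : ¬ ∀ a ∈ A ∪ B, a • w = w := fun h => h2 fun a ha => h a (Or.inr ha)
      rw [if_neg h2, if_neg h3, mul_zero]
  · have h3 : ¬ ∀ a ∈ A ∪ B, a • w = w := fun h => h1 fun a ha => h a (Or.inl ha)
    rw [if_neg h1, if_neg h3, zero_mul]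

theorem ind_conj (A : Set G) (g : G) (w : Ω) :
    ind Ω ((fun a => g * a * g⁻¹) '' A) w = ind Ω A (g⁻¹ • w) := by
  classical
  unfold ind
  congr 1
  apply propext
  constructor
  · intro h a ha
    have h := h (g * a * g⁻¹) ⟨a, ha, rfl⟩
    rw [smul_smul, show a * g⁻¹ = g⁻¹ * (g * a * g⁻¹) by group, mul_smul, h]
  · rintro h _ ⟨a, ha, rfl⟩
    have h := h a ha
    simp only [mul_smul, h, smul_inv_smul]

/-- **Cauchy-Schwarz** for the average over a finite subgroup `Y`. -/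
theorem cs [Finite Ω] (Y : Subgroup G) [Finite Y] (A : Set G) :
    fpr Ω A ^ 2 * (Nat.card Y : ℝ)
      ≤ ∑ᶠ y : Y, fpr Ω (A ∪ (fun a => (y : G) * a * (y : G)⁻¹) '' A) := by
  classical
  have := Fintype.ofFinite Ω
  have := Fintype.ofFinite Y
  rw [finsum_eq_sum_of_fintype]
  rcases Nat.eq_zero_or_pos (Nat.card Ω) with h0 | h0
  · have h1 : ∀ B : Set G, fpr Ω B = 0 := fun B => by unfold fpr; rw [h0]; simp
    simp [h1]
  have hN : (0 : ℝ) < Nat.card Ω := by exact_mod_cast h0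
  have hY : (0 : ℝ) < Nat.card Y := by exact_mod_cast Nat.card_pos
  -- the averaged function
  set P : Ω → ℝ := fun w => ∑ y : Y, ind Ω A ((y : G)⁻¹ • w) with hP
  have hsumP : ∑ w, P w = (Nat.card Y : ℝ) * (fpr Ω A * Nat.card Ω) := by
    rw [hP, Finset.sum_comm]
    have : ∀ y : Y, ∑ w : Ω, ind Ω A ((y : G)⁻¹ • w) = fpr Ω A * Nat.card Ω := by
      intro y
      rw [← sum_ind]
      exact Fintype.sum_equiv (MulAction.toPerm ((y : G)⁻¹)) _ _ (fun w => rfl)
    rw [Finset.sum_congr rfl fun y _ => this y, Finset.sum_const, nsmul_eq_mul,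
      Finset.card_univ, Nat.card_eq_fintype_card (α := Y)]
  have hsq : ∑ w, P w ^ 2 = (Nat.card Y : ℝ) *
      ∑ y : Y, fpr Ω (A ∪ (fun a => (y : G) * a * (y : G)⁻¹) '' A) * Nat.card Ω := by
    have e1 : ∀ w, P w ^ 2 = ∑ y : Y, ∑ z : Y,
        ind Ω A ((y : G)⁻¹ • w) * ind Ω A ((z : G)⁻¹ • w) := by
      intro w
      rw [sq, hP, Finset.sum_mul_sum]
    rw [Finset.sum_congr rfl fun w _ => e1 w, Finset.sum_comm]
    have e2 : ∀ y : Y, ∑ w : Ω, ∑ z : Y,
        ind Ω A ((y : G)⁻¹ • w) * ind Ω A ((z : G)⁻¹ • w) =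
        ∑ z : Y, fpr Ω (A ∪ (fun a => (z : G) * a * (z : G)⁻¹) '' A) * Nat.card Ω := by
      intro y
      rw [Finset.sum_comm]
      -- substitute w = y w', z = y z'
      have e3 : ∀ z : Y, ∑ w : Ω, ind Ω A ((y : G)⁻¹ • w) * ind Ω A ((z : G)⁻¹ • w) =
          ∑ w : Ω, ind Ω A w * ind Ω A (((y⁻¹ * z : Y) : G)⁻¹ • w) := by
        intro z
        refine Fintype.sum_equiv (MulAction.toPerm ((y : G)⁻¹)) _ _ (fun w => ?_)
        simp only [MulAction.toPerm_apply]
        rw [smul_smul, Subgroup.coe_mul, Subgroup.coe_inv, mul_inv_rev, inv_inv, mul_assoc,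
          mul_inv_cancel, mul_one]
      rw [Finset.sum_congr rfl fun z _ => e3 z]
      refine Fintype.sum_equiv (Equiv.mulLeft y⁻¹) _ _ (fun z => ?_)
      simp only [Equiv.coe_mulLeft]
      rw [← sum_ind]
      refine Finset.sum_congr rfl fun w _ => ?_
      rw [← ind_mul, ind_conj]
    rw [Finset.sum_congr rfl fun y _ => e2 y, Finset.sum_const, nsmul_eq_mul,
      Finset.card_univ, Nat.card_eq_fintype_card (α := Y)]
  have hCS : (∑ w, P w) ^ 2 ≤ (Nat.card Ω : ℝ) * ∑ w, P w ^ 2 := by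
    have := sq_sum_le_card_mul_sum_sq (s := (Finset.univ : Finset Ω)) (f := P)
    rwa [Finset.card_univ, ← Nat.card_eq_fintype_card] at this
  rw [hsumP, hsq, ← Finset.sum_mul] at hCS
  have h2 : (Nat.card Y : ℝ) * (Nat.card Ω : ℝ) ^ 2 * (fpr Ω A ^ 2 * Nat.card Y) ≤
      (Nat.card Y : ℝ) * (Nat.card Ω : ℝ) ^ 2 *
        ∑ y : Y, fpr Ω (A ∪ (fun a => (y : G) * a * (y : G)⁻¹) '' A) := by
    nlinarith [hCS]
  exact le_of_mul_le_mul_left h2 (by positivity)

/-- Cauchy-Schwarz, split form: if for all but `b` elements `y` of the finite subgroup `Y` the set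
`A ∪ A^y` has fixed point ratio at most `δ`, then `fpr A ^ 2 ≤ δ + b / |Y|`. -/
theorem cs_split [Finite Ω] (Y : Subgroup G) [Finite Y] (A : Set G) (Bad : Set Y) (δ : ℝ)
    (hδ : 0 ≤ δ)
    (h : ∀ y : Y, y ∉ Bad → fpr Ω (A ∪ (fun a => (y : G) * a * (y : G)⁻¹) '' A) ≤ δ) :
    fpr Ω A ^ 2 ≤ δ + (Nat.card Bad : ℝ) / Nat.card Y := by
  classical
  have := Fintype.ofFinite Y
  have h1 := cs Ω Y A
  rw [finsum_eq_sum_of_fintype] at h1
  have hY : (0 : ℝ) < Nat.card Y := by exact_mod_cast Nat.card_pos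
  have h2 : ∑ y : Y, fpr Ω (A ∪ (fun a => (y : G) * a * (y : G)⁻¹) '' A) ≤
      ∑ y : Y, (δ + if y ∈ Bad then 1 else 0) := by
    refine Finset.sum_le_sum fun y _ => ?_
    by_cases hy : y ∈ Bad
    · rw [if_pos hy]
      have := fpr_le_one Ω (A ∪ (fun a => (y : G) * a * (y : G)⁻¹) '' A)
      linarith
    · rw [if_neg hy, add_zero]
      exact h y hy
  rw [Finset.sum_add_distrib, Finset.sum_const, nsmul_eq_mul, Finset.card_univ,
    ← Nat.card_eq_fintype_card, Finset.sum_boole] at h2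
  have h3 : ((Finset.univ.filter fun y => y ∈ Bad).card : ℝ) = Nat.card Bad := by
    rw [Nat.card_eq_fintype_card, ← Set.toFinset_card]
    congr 2
    ext y; simp
  rw [h3] at h2
  have h4 : fpr Ω A ^ 2 * (Nat.card Y : ℝ) ≤ (δ + (Nat.card Bad : ℝ) / Nat.card Y) *
      Nat.card Y := by
    rw [add_mul, div_mul_cancel₀ _ hY.ne']
    linarith
  exact le_of_mul_le_mul_right h4 hY

/-- Cauchy-Schwarz with commutators: `fpr x ^ 2 ≤ δ + b / |Y|` if all but `b` of the commutators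
`x * y x⁻¹ y⁻¹` (`y ∈ Y`) have fixed point ratio at most `δ`. -/
theorem cs_comm [Finite Ω] (Y : Subgroup G) [Finite Y] (x : G) (Bad : Set Y) (δ : ℝ)
    (hδ : 0 ≤ δ)
    (h : ∀ y : Y, y ∉ Bad → fpr Ω {x * ((y : G) * x⁻¹ * (y : G)⁻¹)} ≤ δ) :
    fpr Ω {x} ^ 2 ≤ δ + (Nat.card Bad : ℝ) / Nat.card Y := by
  refine cs_split Ω Y {x} Bad δ hδ fun y hy => le_trans ?_ (h y hy)
  apply fpr_closure_le
  rintro _ rfl
  have h1 : x ∈ Subgroup.closure ({x} ∪ (fun a => (y : G) * a * (y : G)⁻¹) '' {x}) :=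
    Subgroup.subset_closure (Or.inl rfl)
  have h2 : (y : G) * x * (y : G)⁻¹ ∈
      Subgroup.closure ({x} ∪ (fun a => (y : G) * a * (y : G)⁻¹) '' {x}) :=
    Subgroup.subset_closure (Or.inr ⟨x, rfl, rfl⟩)
  have h3 := Subgroup.mul_mem _ h1 (Subgroup.inv_mem _ h2)
  have e : x * ((y : G) * x * (y : G)⁻¹)⁻¹ = x * ((y : G) * x⁻¹ * (y : G)⁻¹) := by group
  rw [e] at h3
  exact h3

end Def

end Cfsg.Agent.H917.FP
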