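import Cfsg.Agent.H917.FP.Basic
import Cfsg.Agent.H514.DP.Core
import Cfsg.Agent.PermutationGroups.PermChar

/-!
Fixed point ratio calculus for S5717: the lossless step.  `S` perfect with smallest nontrivial
degree at least `d`: for every finite `S`-set `Ω` and every `z`,
`fpr Ω {z} ≤ fpr Ω S + 1 / (d+1) + √|C_S(z)| / d`.
-/

set_option autoImplicit false

namespace Cfsg.Agent.H917.FP

open Cfsg MulAction Cfsg.Agent.Characters.Core Cfsg.Agent.H514.DP Cfsg.Agent.H686.CharKit
open scoped ComplexConjugate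

universe u v

section Char

variable {S : Type u} [Group S] {Ω : Type v} [MulAction S Ω]

/-- the multiplicities of a permutation character. -/
theorem perm_comb [Finite S] [Finite Ω] [Fintype (IrrCharacter S)] :
    ∃ (m dg : IrrCharacter S → ℕ),
      (∀ g : S, (Nat.card (fixedBy Ω g) : ℂ) = ∑ ψ : IrrCharacter S, (m ψ : ℂ) * (ψ : S → ℂ) g) ∧
      (∀ ψ : IrrCharacter S, (ψ : S → ℂ) 1 = dg ψ) ∧ (∀ ψ, 0 < dg ψ) ∧
      Nat.card Ω = ∑ ψ : IrrCharacter S, m ψ * dg ψ ∧
      (m ⟨1, isIrr_one⟩ * Nat.card S = ∑ᶠ w : Ω, Nat.card (stabilizer S w)) := by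
  classical
  have : Fintype S := Fintype.ofFinite S
  have : Fintype Ω := Fintype.ofFinite Ω
  have hG : (Nat.card S : ℂ) ≠ 0 := card_ne_zero_complex
  set π : S → ℂ := fun g => (Nat.card (fixedBy Ω g) : ℂ) with hπ
  have hchar : IsCharacter S π := by
    rw [hπ, Cfsg.Agent.PermutationGroups.PermChar.permChar_eq]
    exact isCharacter_of_rep _
  obtain ⟨m, hm⟩ := exists_nat_comb hchar
  choose dg hdg0 hdg using fun ψ : IrrCharacter S => isIrr_apply_one ψ.2
  refine ⟨m, dg, ?_, hdg, hdg0, ?_, ?_⟩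
  · intro g
    have h1 := congrFun hm g
    simp only [Finset.sum_apply, nsmul_eq_mul] at h1
    exact h1
  · have h1 := congrFun hm 1
    simp only [Finset.sum_apply, Pi.smul_apply] at h1
    have h2 : π 1 = Nat.card Ω := by
      rw [hπ]
      simp only [Nat.cast_inj]
      refine Nat.card_congr ⟨fun x => x.1, fun x => ⟨x, one_smul S x⟩, fun _ => rfl, fun _ => rfl⟩
    rw [h2] at h1
    have h3 : (Nat.card Ω : ℂ) = ((∑ ψ : IrrCharacter S, m ψ * dg ψ : ℕ) : ℂ) := by
      rw [h1]
      push_cast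
      refine Finset.sum_congr rfl fun ψ _ => ?_
      rw [nsmul_eq_mul, ← hdg ψ]
    exact_mod_cast h3
  · set ε : IrrCharacter S := ⟨1, isIrr_one⟩ with hε
    have h1 := classInner_sum_nsmul_irr m ε
    rw [← hm] at h1
    rw [classInner_def] at h1
    have h5 : ∑ g : S, π g * conj ((ε : S → ℂ) g) = ((∑ g : S, Nat.card (fixedBy Ω g) : ℕ) : ℂ) := by
      push_cast
      refine Finset.sum_congr rfl fun g _ => ?_
      change π g * conj ((1 : S → ℂ) g) = _
      rw [Pi.one_apply, map_one, mul_one]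
    rw [h5] at h1
    have h6 : (∑ g : S, Nat.card (fixedBy Ω g)) = ∑ w : Ω, Nat.card (stabilizer S w) := by
      have e1 : ∀ g : S, Nat.card (fixedBy Ω g) = ∑ w : Ω, if g • w = w then 1 else 0 := by
        intro g
        rw [Nat.card_eq_fintype_card, Fintype.card_subtype, Finset.card_filter]
        rfl
      have e2 : ∀ w : Ω, Nat.card (stabilizer S w) = ∑ g : S, if g • w = w then 1 else 0 := by
        intro w
        rw [Nat.card_eq_fintype_card, Fintype.card_subtype, Finset.card_filter]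
        rfl
      simp only [e1, e2]
      exact Finset.sum_comm
    rw [finsum_eq_sum_of_fintype, ← h6]
    have h7 : (Nat.card S : ℂ) * ((Nat.card S : ℂ)⁻¹ * ((∑ g : S, Nat.card (fixedBy Ω g) : ℕ) : ℂ)) =
      (Nat.card S : ℂ) * (m ε : ℂ) := by rw [h1]
    rw [← mul_assoc, mul_inv_cancel₀ hG, one_mul] at h7
    have h8 : (∑ g : S, Nat.card (fixedBy Ω g)) = Nat.card S * m ε := by exact_mod_cast h7
    rw [h8, mul_comm]

/-- a proper subgroup has index at least `d + 1`. -/
theorem index_ge [Finite S] (hperf : commutator S = ⊤) {d : ℕ} (hd : MinDeg S d)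
    {R : Subgroup S} (hR : R ≠ ⊤) : d + 1 ≤ R.index := by
  classical
  have : Fintype (IrrCharacter S) := by
    have := finite_irr (G := S)
    exact Fintype.ofFinite _
  obtain ⟨m, dg, -, hdg, hdg0, hsum, hm1⟩ := perm_comb (S := S) (Ω := S ⧸ R)
  set ε : IrrCharacter S := ⟨1, isIrr_one⟩ with hε
  have hS : 0 < Nat.card S := Nat.card_pos
  have hX : Nat.card (S ⧸ R) = R.index := rfl
  have h1 : m ε = 1 := by
    have : Fintype (S ⧸ R) := Fintype.ofFinite _
    rw [finsum_eq_sum_of_fintype] at hm1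
    have h2 : ∀ w : S ⧸ R, Nat.card (stabilizer S w) = Nat.card R := by
      intro w
      have h4 : Nat.card (orbit S w) = R.index := by
        rw [orbit_eq_univ, Nat.card_congr (Equiv.Set.univ _), hX]
      have h5 := Subgroup.index_mul_card R
      have h6 : Nat.card (orbit S w) * Nat.card (stabilizer S w) = Nat.card S := by
        have := Fintype.ofFinite (orbit S w)
        have := Fintype.ofFinite (stabilizer S w)
        have := Fintype.ofFinite S
        rw [Nat.card_eq_fintype_card, Nat.card_eq_fintype_card, Nat.card_eq_fintype_card]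
        exact MulAction.card_orbit_mul_card_stabilizer_eq_card_group S w
      rw [h4, ← h5] at h6
      exact Nat.eq_of_mul_eq_mul_left (Nat.pos_of_ne_zero Subgroup.index_ne_zero_of_finite) h6
    rw [Finset.sum_congr rfl fun w _ => h2 w, Finset.sum_const, Finset.card_univ,
      ← Nat.card_eq_fintype_card, hX, smul_eq_mul, Subgroup.index_mul_card] at hm1
    exact Nat.eq_of_mul_eq_mul_right hS (by rw [hm1, one_mul])
  have hdε : dg ε = 1 := by
    have h1 := hdg ε
    have h2 : (ε : S → ℂ) 1 = 1 := rfl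
    rw [h2] at h1
    exact_mod_cast h1.symm
  have hsplit : Nat.card (S ⧸ R) = 1 + ∑ ψ ∈ Finset.univ.erase ε, m ψ * dg ψ := by
    rw [hsum, ← Finset.add_sum_erase _ _ (Finset.mem_univ ε), h1, hdε]
  have hgt : 1 < R.index := by
    have h0 : R.index ≠ 0 := Subgroup.index_ne_zero_of_finite
    have h3 : R.index ≠ 1 := fun h => hR (Subgroup.index_eq_one.mp h)
    omega
  have hne : ∑ ψ ∈ Finset.univ.erase ε, m ψ * dg ψ ≠ 0 := by
    rw [hX] at hsplit
    omega
  obtain ⟨ψ, hψ, hψ0⟩ := Finset.exists_ne_zero_of_sum_ne_zero hne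
  have hψ1 : (ψ : S → ℂ) 1 ≠ 1 := by
    intro h3
    have h4 := eq_one_of_perf hperf ψ.2 h3
    exact (Finset.mem_erase.1 hψ).1 (Subtype.ext h4)
  obtain ⟨n, hn, -, hn1⟩ := MinDeg.le hd ψ.2 hψ1
  have h5 : dg ψ = n := by
    have := hdg ψ
    rw [hn1] at this
    exact_mod_cast this.symm
  have h6 : dg ψ ≤ m ψ * dg ψ := Nat.le_mul_of_pos_left _ (Nat.pos_of_ne_zero fun h => hψ0 (by rw [h, zero_mul]))
  have h7 : m ψ * dg ψ ≤ ∑ ψ ∈ Finset.univ.erase ε, m ψ * dg ψ :=
    Finset.single_le_sum (f := fun ψ => m ψ * dg ψ) (fun _ _ => Nat.zero_le _) hψ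
  rw [← hX, hsplit]
  omega

theorem norm_le_sqrt [Finite S] (χ : IrrCharacter S) (t : S) :
    ‖(χ : S → ℂ) t‖ ≤ √(Nat.card (Subgroup.centralizer ({t} : Set S)) : ℝ) := by
  have : Fintype S := Fintype.ofFinite S
  have : Fintype (IrrCharacter S) := by
    have := finite_irr (G := S)
    exact Fintype.ofFinite _
  rw [← sum_normSq t]
  refine Real.le_sqrt_of_sq_le ?_
  rw [← Complex.normSq_eq_norm_sq]
  exact Finset.single_le_sum (f := fun χ : IrrCharacter S => Complex.normSq ((χ : S → ℂ) t))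
    (fun _ _ => Complex.normSq_nonneg _) (Finset.mem_univ χ)

/-- **The lossless step.** -/
theorem fpr_le_char [Finite S] [Finite Ω] (hperf : commutator S = ⊤) {d : ℕ} (hd0 : 0 < d)
    (hd : MinDeg S d) (z : S) :
    fpr Ω {z} ≤ fpr Ω (Set.univ : Set S) + 1 / ((d : ℝ) + 1) +
      √(Nat.card (Subgroup.centralizer ({z} : Set S)) : ℝ) / d := by
  classical
  have : Fintype S := Fintype.ofFinite S
  have : Fintype Ω := Fintype.ofFinite Ω
  have : Fintype (IrrCharacter S) := by
    have := finite_irr (G := S)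
    exact Fintype.ofFinite _
  set s : ℝ := √(Nat.card (Subgroup.centralizer ({z} : Set S)) : ℝ) with hs
  have hs0 : 0 ≤ s := Real.sqrt_nonneg _
  have hdR : (0 : ℝ) < d := by exact_mod_cast hd0
  rcases Nat.eq_zero_or_pos (Nat.card Ω) with h0 | h0
  · have h1 : ∀ B : Set S, fpr Ω B = 0 := fun B => by unfold fpr; rw [h0]; simp
    rw [h1, h1]
    positivity
  have hN : (0 : ℝ) < Nat.card Ω := by exact_mod_cast h0
  have hS : (0 : ℝ) < Nat.card S := by exact_mod_cast Nat.card_pos
  obtain ⟨m, dg, hm, hdg, hdg0, hsum, hm1⟩ := perm_comb (S := S) (Ω := Ω)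
  set ε : IrrCharacter S := ⟨1, isIrr_one⟩ with hε
  have hdε : dg ε = 1 := by
    have h1 := hdg ε
    have h2 : (ε : S → ℂ) 1 = 1 := rfl
    rw [h2] at h1
    exact_mod_cast h1.symm
  have hdψ : ∀ ψ : IrrCharacter S, ψ ≠ ε → d ≤ dg ψ := by
    intro ψ hψ
    have hψ1 : (ψ : S → ℂ) 1 ≠ 1 := fun h3 => hψ (Subtype.ext (eq_one_of_perf hperf ψ.2 h3))
    obtain ⟨n, hn, -, hn1⟩ := MinDeg.le hd ψ.2 hψ1
    have h5 : dg ψ = n := by
      have := hdg ψ
      rw [hn1] at this
      exact_mod_cast this.symm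
    rwa [h5]
  -- the sum of the other multiplicities
  have hM : ((∑ ψ ∈ Finset.univ.erase ε, m ψ : ℕ) : ℝ) * d ≤ (Nat.card Ω : ℝ) := by
    have h1 : (∑ ψ ∈ Finset.univ.erase ε, m ψ) * d ≤ Nat.card Ω := by
      rw [hsum, Finset.sum_mul]
      refine (Finset.sum_le_sum fun ψ hψ => Nat.mul_le_mul_left (m ψ)
        (hdψ ψ (Finset.mem_erase.1 hψ).1)).trans ?_
      exact Finset.sum_le_sum_of_subset_of_nonneg (Finset.erase_subset _ _) fun _ _ _ => Nat.zero_le _
    exact_mod_cast h1
  -- the number of orbits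
  have hr : (m ε : ℝ) ≤ (Nat.card {w : Ω // ∀ a ∈ (Set.univ : Set S), a • w = w} : ℝ) +
      (Nat.card Ω : ℝ) / ((d : ℝ) + 1) := by
    have h1 : (m ε : ℝ) * Nat.card S = ∑ w : Ω, (Nat.card (stabilizer S w) : ℝ) := by
      rw [finsum_eq_sum_of_fintype] at hm1
      exact_mod_cast hm1
    have h2 : ∀ w : Ω, (Nat.card (stabilizer S w) : ℝ) ≤
        ((if ∀ a ∈ (Set.univ : Set S), a • w = w then 1 else 0) + 1 / ((d : ℝ) + 1)) * Nat.card S := by
      intro w
      by_cases hw : ∀ a ∈ (Set.univ : Set S), a • w = w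
      · rw [if_pos hw, add_mul, one_mul]
        have h3 : (Nat.card (stabilizer S w) : ℝ) ≤ Nat.card S := by
          exact_mod_cast Nat.le_of_dvd Nat.card_pos (Subgroup.card_subgroup_dvd_card _)
        have h4 : 0 ≤ 1 / ((d : ℝ) + 1) * Nat.card S := by positivity
        linarith
      · rw [if_neg hw, zero_add]
        have h3 : stabilizer S w ≠ ⊤ := by
          intro h
          apply hw
          intro a _
          have : a ∈ stabilizer S w := by rw [h]; trivial
          exact this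
        have h4 := index_ge hperf hd h3
        have h5 := Subgroup.index_mul_card (stabilizer S w)
        have h6 : ((d : ℝ) + 1) * (Nat.card (stabilizer S w) : ℝ) ≤ Nat.card S := by
          rw [← h5]
          push_cast
          have : ((d : ℝ) + 1) ≤ ((stabilizer S w).index : ℝ) := by exact_mod_cast h4
          nlinarith [this, (Nat.cast_nonneg (Nat.card (stabilizer S w)) : (0 : ℝ) ≤ _)]
        rw [div_mul_eq_mul_div, one_mul, le_div_iff₀ (by positivity)]
        linarith
    have h3 : (m ε : ℝ) * Nat.card S ≤ ((Nat.card {w : Ω // ∀ a ∈ (Set.univ : Set S), a • w = w} : ℝ) +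
      (Nat.card Ω : ℝ) / ((d : ℝ) + 1)) * Nat.card S := by
      rw [h1]
      refine (Finset.sum_le_sum fun w _ => h2 w).trans (le_of_eq ?_)
      rw [← Finset.sum_mul, Finset.sum_add_distrib, Finset.sum_boole, Finset.sum_const,
        Finset.card_univ, nsmul_eq_mul, ← Nat.card_eq_fintype_card (α := Ω),
        Nat.card_eq_fintype_card (α := {w : Ω // ∀ a ∈ (Set.univ : Set S), a • w = w}),
        Fintype.card_subtype]
      ring
    exact le_of_mul_le_mul_right h3 hS
  -- the bound
  have hfix : (Nat.card {w : Ω // ∀ a ∈ ({z} : Set S), a • w = w} : ℝ) ≤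
      m ε + s * (∑ ψ ∈ Finset.univ.erase ε, m ψ : ℕ) := by
    have h1 : Nat.card {w : Ω // ∀ a ∈ ({z} : Set S), a • w = w} = Nat.card (fixedBy Ω z) := by
      refine Nat.card_congr (Equiv.subtypeEquivRight fun w => ?_)
      simp
    rw [h1]
    have h2 := hm z
    rw [← Finset.add_sum_erase _ _ (Finset.mem_univ ε)] at h2
    have h3 : ‖((Nat.card (fixedBy Ω z) : ℕ) : ℂ)‖ ≤ m ε + s * (∑ ψ ∈ Finset.univ.erase ε, m ψ : ℕ) := by
      rw [h2]
      refine (norm_add_le _ _).trans (add_le_add ?_ ?_)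
      · have : (ε : S → ℂ) z = 1 := rfl
        rw [this, mul_one, Complex.norm_natCast]
      · refine (norm_sum_le _ _).trans ?_
        push_cast
        rw [Finset.mul_sum]
        refine Finset.sum_le_sum fun ψ _ => ?_
        rw [norm_mul, Complex.norm_natCast, mul_comm]
        exact mul_le_mul_of_nonneg_right (norm_le_sqrt ψ z) (Nat.cast_nonneg _)
    rwa [Complex.norm_natCast] at h3
  have h5 : s * ((∑ ψ ∈ Finset.univ.erase ε, m ψ : ℕ) : ℝ) ≤ s / d * Nat.card Ω := by
    rw [div_mul_eq_mul_div, le_div_iff₀ hdR, mul_assoc]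
    exact mul_le_mul_of_nonneg_left hM hs0
  unfold fpr
  rw [div_le_iff₀ hN, add_mul, add_mul, div_mul_cancel₀ _ hN.ne']
  rw [div_mul_eq_mul_div, one_mul]
  linarith

end Char

end Cfsg.Agent.H917.FP
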