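import Mathlib

/-!
Generation of groups of transvections (S5717, doubling steps).

`Has H v f` : the transvection `x ↦ x + f x • v` belongs to `H` (if `f v = 0`).
-/

set_option autoImplicit false

namespace Cfsg.Agent.H917.FP

open Module
open LinearEquiv (transvection)

universe u v

section Has

variable {F : Type u} {V : Type v} [Field F] [AddCommGroup V] [Module F V]

/-- the transvection `x ↦ x + f x • v` belongs to `H`. -/
def Has (H : Subgroup (V ≃ₗ[F] V)) (v : V) (f : Dual F V) : Prop :=
  ∀ h : f v = 0, transvection h ∈ H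

variable {H : Subgroup (V ≃ₗ[F] V)}

theorem tv_apply {f : Dual F V} {v : V} (h : f v = 0) (x : V) : transvection h x = x + f x • v := rfl

theorem tv_inv {f : Dual F V} {v : V} (h : f v = 0) (x : V) :
    (transvection h)⁻¹ x = x - f x • v := by
  have h1 : (transvection h) (x - f x • v) = x := by
    rw [tv_apply, map_sub, map_smul, h, smul_zero, sub_zero, sub_add_cancel]
  have h2 : (transvection h)⁻¹ ((transvection h) (x - f x • v)) = x - f x • v :=
    (transvection h).symm_apply_apply _
  rwa [h1] at h2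

theorem Has.of_ne {v : V} {f : Dual F V} (h : f v ≠ 0) : Has H v f := fun h1 => absurd h1 h

theorem has_zero_left (f : Dual F V) : Has H 0 f := by
  intro h
  have : transvection h = 1 := by
    refine LinearEquiv.ext fun x => ?_
    rw [tv_apply]; simp
  rw [this]; exact H.one_mem

theorem has_zero_right (v : V) : Has H v 0 := by
  intro h
  have : transvection h = 1 := by
    refine LinearEquiv.ext fun x => ?_
    rw [tv_apply]; simp
  rw [this]; exact H.one_mem

theorem Has.add_right {v : V} {f g : Dual F V} (h1 : Has H v f) (h2 : Has H v g)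
    (hf : f v = 0) (hg : g v = 0) : Has H v (f + g) := by
  intro h
  have : transvection h = transvection hf * transvection hg := by
    refine LinearEquiv.ext fun x => ?_
    simp only [tv_apply, LinearEquiv.mul_apply, LinearMap.add_apply, map_add, map_smul, hf,
      zero_smul, add_zero, add_smul]
    abel
  rw [this]
  exact H.mul_mem (h1 hf) (h2 hg)

theorem Has.add_left {v w : V} {f : Dual F V} (h1 : Has H v f) (h2 : Has H w f)
    (hf : f v = 0) (hg : f w = 0) : Has H (v + w) f := by
  intro h
  have : transvection h = transvection hf * transvection hg := by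
    refine LinearEquiv.ext fun x => ?_
    simp only [tv_apply, LinearEquiv.mul_apply, map_add, map_smul, hg, zero_smul,
      add_zero, smul_add]
    abel
  rw [this]
  exact H.mul_mem (h1 hf) (h2 hg)

theorem has_smul_iff {v : V} {f : Dual F V} (c : F) : Has H (c • v) f ↔ Has H v (c • f) := by
  rcases eq_or_ne c 0 with rfl | hc
  · rw [zero_smul, zero_smul]
    exact ⟨fun _ => has_zero_right _, fun _ => has_zero_left _⟩
  · constructor
    · intro h1 h2
      have h3 : f (c • v) = 0 := by rw [map_smul]; simpa using h2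
      have : transvection h2 = transvection h3 := by
        refine LinearEquiv.ext fun x => ?_
        simp only [tv_apply, LinearMap.smul_apply, smul_eq_mul, smul_smul, mul_comm]
      rw [this]; exact h1 h3
    · intro h1 h2
      have h3 : (c • f) v = 0 := by rw [map_smul] at h2; simpa using h2
      have : transvection h2 = transvection h3 := by
        refine LinearEquiv.ext fun x => ?_
        simp only [tv_apply, LinearMap.smul_apply, smul_eq_mul, smul_smul, mul_comm]
      rw [this]; exact h1 h3

theorem Has.neg {v : V} {f : Dual F V} (h : Has H v f) : Has H v (-f) := by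
  intro h1
  have h2 : f v = 0 := by simpa using h1
  have : transvection h1 = (transvection h2)⁻¹ := by
    refine LinearEquiv.ext fun x => ?_
    rw [tv_apply, tv_inv, LinearMap.neg_apply, neg_smul, sub_eq_add_neg]
  rw [this]; exact H.inv_mem (h h2)

theorem Has.conj {v : V} {f : Dual F V} (h : Has H v f) {s : V ≃ₗ[F] V} (hs : s ∈ H) :
    Has H (s v) (f ∘ₗ (s.symm : V →ₗ[F] V)) := by
  intro h1
  have h2 : f v = 0 := by simpa using h1
  have : transvection h1 = s * transvection h2 * s⁻¹ := by
    refine LinearEquiv.ext fun x => ?_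
    have e : s⁻¹ x = s.symm x := rfl
    simp only [tv_apply, LinearEquiv.mul_apply, e, map_add, map_smul, LinearEquiv.apply_symm_apply,
      LinearMap.comp_apply, LinearEquiv.coe_coe]
  rw [this]
  exact H.mul_mem (H.mul_mem hs (h h2)) (H.inv_mem hs)

/-- the commutator formula. -/
theorem Has.comm {v w : V} {f g : Dual F V} (h1 : Has H v f) (h2 : Has H w g)
    (hf : f v = 0) (hg : g w = 0) (hgv : g v = 0) : Has H v (f w • g) := by
  intro h
  have : transvection h =
      transvection hf * transvection hg * (transvection hf)⁻¹ * (transvection hg)⁻¹ := by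
    refine LinearEquiv.ext fun x => ?_
    simp only [tv_apply, tv_inv, LinearEquiv.mul_apply, LinearMap.smul_apply, map_add, map_sub,
      map_smul, hf, hg, hgv, smul_eq_mul]
    module
  rw [this]
  exact H.mul_mem (H.mul_mem (H.mul_mem (h1 hf) (h2 hg)) (H.inv_mem (h1 hf))) (H.inv_mem (h2 hg))

/-- a scaled form of the commutator formula: if all multiples of `f` are allowed. -/
theorem Has.comm' {v w : V} {f g : Dual F V} (h1 : ∀ c : F, Has H v (c • f)) (h2 : Has H w g)
    (hf : f v = 0) (hg : g w = 0) (hgv : g v = 0) (hfw : f w ≠ 0) : Has H v g := by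
  have := Has.comm (h1 (f w)⁻¹) h2 (by simp [hf]) hg hgv
  rw [LinearMap.smul_apply, smul_eq_mul, inv_mul_cancel₀ hfw, one_smul] at this
  exact this

/-- there is a functional vanishing at `u` and equal to one at `w`. -/
theorem exists_dual {u w : V} (h : w ∉ Submodule.span F {u}) :
    ∃ f : Dual F V, f u = 0 ∧ f w = 1 := by
  obtain ⟨f, hf1, hf2⟩ := Submodule.exists_dual_map_eq_bot_of_notMem h inferInstance
  have hu : f u = 0 := by
    have h1 : f u ∈ Submodule.map f (Submodule.span F {u}) :=
      ⟨u, Submodule.mem_span_singleton_self u, rfl⟩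
    rw [hf2] at h1
    simpa using h1
  refine ⟨(f w)⁻¹ • f, by simp [hu], by simp [hf1]⟩

/-- **The S-trick.** If `H` contains all transvections with vector in `U₁` or in `U₂` and
`U₁ + U₂ = V`, then it contains all transvections. -/
theorem has_all_of_two {U₁ U₂ : Submodule F V} (hU : U₁ ⊔ U₂ = ⊤)
    (h1 : ∀ u ∈ U₁, ∀ f : Dual F V, Has H u f) (h2 : ∀ u ∈ U₂, ∀ f : Dual F V, Has H u f)
    (p : V) (f : Dual F V) : Has H p f := by
  intro hp
  have hp2 : p ∈ U₁ ⊔ U₂ := by rw [hU]; trivial
  obtain ⟨u, hu, w, hw, rfl⟩ := Submodule.mem_sup.mp hp2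
  by_cases hspan : w ∈ Submodule.span F {u}
  · obtain ⟨c, rfl⟩ := Submodule.mem_span_singleton.mp hspan
    have : u + c • u = (1 + c) • u := by rw [add_smul, one_smul]
    exact h1 _ (by rw [this]; exact U₁.smul_mem _ hu) f hp
  · obtain ⟨h, hh1, hh2⟩ := exists_dual hspan
    have hs := h1 u hu h hh1
    set s : V ≃ₗ[F] V := transvection hh1 with hsdef
    have hsw : s w = u + w := by
      rw [hsdef, tv_apply, hh2, one_smul, add_comm]
    have h3 : Has H (s w) ((f ∘ₗ (s : V →ₗ[F] V)) ∘ₗ (s.symm : V →ₗ[F] V)) :=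
      (h2 w hw (f ∘ₗ (s : V →ₗ[F] V))).conj hs
    have e : (f ∘ₗ (s : V →ₗ[F] V)) ∘ₗ (s.symm : V →ₗ[F] V) = f := by
      ext x; simp
    rw [e, hsw] at h3
    exact h3 hp

end Has

section Two

/-! ### The space `K × K` -/

variable {F : Type u} {K : Type v} [Field F] [Field K] [Algebra F K]

open LinearMap

/-- functionals on `K × K`. -/
def fn (f g : Dual F K) : Dual F (K × K) := f ∘ₗ LinearMap.fst F K K + g ∘ₗ LinearMap.snd F K K

@[simp] theorem fn_apply (f g : Dual F K) (x : K × K) : fn f g x = f x.1 + g x.2 := rfl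

theorem fn_eta (h : Dual F (K × K)) :
    h = fn (h ∘ₗ LinearMap.inl F K K) (h ∘ₗ LinearMap.inr F K K) := by
  refine LinearMap.ext fun x => ?_
  rw [fn_apply, LinearMap.comp_apply, LinearMap.comp_apply, ← map_add]
  congr 1
  simp

/-- `f ∘ (c * ·)` -/
def mulf (f : Dual F K) (c : K) : Dual F K := f ∘ₗ LinearMap.mulLeft F c

@[simp] theorem mulf_apply (f : Dual F K) (c x : K) : mulf f c x = f (c * x) := rfl

variable {H : Subgroup ((K × K) ≃ₗ[F] (K × K))}

/-- `u ∉ F v` for `v ≠ 0`, and a nonzero functional: elements of its kernel outside a line. -/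
theorem exists_ker_notMem [FiniteDimensional F K] (h3 : 3 ≤ finrank F K) (f : Dual F K) (u : K) :
    ∃ x : K, f x = 0 ∧ x ∉ Submodule.span F {u} := by
  by_contra hcon
  push Not at hcon
  have h1 : LinearMap.ker f ≤ Submodule.span F {u} := fun x hx => hcon x hx
  have h2 := Submodule.finrank_mono h1
  have h4 : finrank F (Submodule.span F {u}) ≤ 1 := (finrank_span_le_card ({u} : Set K)).trans (by simp)
  have h5 := LinearMap.finrank_range_add_finrank_ker f
  have h6 : finrank F (LinearMap.range f) ≤ 1 := by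
    have := Submodule.finrank_le (LinearMap.range f)
    simpa using this
  omega

theorem exists_ker_ne_zero [FiniteDimensional F K] (h2 : 2 ≤ finrank F K) (f : Dual F K) :
    ∃ x : K, f x = 0 ∧ x ≠ 0 := by
  by_contra hcon
  push Not at hcon
  have h1 : LinearMap.ker f = ⊥ := (Submodule.eq_bot_iff _).mpr fun x hx => hcon x hx
  have h5 := LinearMap.finrank_range_add_finrank_ker f
  rw [h1, finrank_bot, add_zero] at h5
  have h6 : finrank F (LinearMap.range f) ≤ 1 := by
    have := Submodule.finrank_le (LinearMap.range f)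
    simpa using this
  omega

/-- **Step 4, first half.** `γ, δ` distinct and nonzero; the group contains the transvections of
`SL(U₁; W₁)`, `U₁ = K × 0`, `W₁ = 0 × K`, and of `SL(U₂; W₂)`, `U₂ = {(x, γ x)}`,
`W₂ = {(x, δ x)}`: it contains all transvections with vector in `U₁`. -/
theorem has_left [FiniteDimensional F K] (h3 : 3 ≤ finrank F K) {γ δ : K}
    (h1 : ∀ (u : K) (f : Dual F K), Has H (u, 0) (fn f 0))
    (h2 : ∀ (x : K) (f : Dual F K), Has H (x, γ * x) (fn (-mulf f δ) f))
    (u : K) (h : Dual F (K × K)) : Has H (u, 0) h := by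
  -- `R₁`
  have R1 : ∀ (u : K) (f : Dual F K), f (δ * u) = 0 → Has H (u, 0) (fn (-mulf f δ) f) := by
    intro u f hf
    obtain ⟨x, hx1, hx2⟩ := exists_ker_notMem h3 (mulf f (γ - δ)) u
    obtain ⟨g, hg1, hg2⟩ := exists_dual hx2
    refine Has.comm' (w := (x, γ * x)) (f := fn g 0) (fun c => ?_) (h2 x f) ?_ ?_ ?_ ?_
    · have : c • fn g (0 : Dual F K) = fn (c • g) 0 := by
        refine LinearMap.ext fun y => ?_
        simp
      rw [this]; exact h1 u _
    · simp [hg1]
    · simp only [mulf_apply, sub_mul, map_sub] at hx1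
      simp only [fn_apply, LinearMap.neg_apply, mulf_apply]
      linear_combination hx1
    · simp [hf]
    · simp [hg2]
  have R2 : ∀ (u : K) (f : Dual F K), f (δ * u) = 0 → Has H (u, 0) (fn 0 f) := by
    intro u f hf
    have e : fn (0 : Dual F K) f = fn (-mulf f δ) f + fn (mulf f δ) 0 := by
      refine LinearMap.ext fun y => ?_
      simp
    rw [e]
    exact (R1 u f hf).add_right (h1 u _) (by simp [hf]) (by simp [hf])
  have R3 : ∀ (u : K) (f : Dual F K), Has H (u, 0) (fn 0 f) := by
    intro u f
    by_cases hf : f (δ * u) = 0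
    · exact R2 u f hf
    · obtain ⟨v, hv1, hv2⟩ := exists_ker_ne_zero (by omega) (mulf f δ)
      have hvu : v ∉ Submodule.span F {u} := by
        intro hmem
        obtain ⟨c, rfl⟩ := Submodule.mem_span_singleton.mp hmem
        rcases eq_or_ne c 0 with rfl | hc
        · exact hv2 (zero_smul _ _)
        · apply hf
          rw [mulf_apply, Algebra.mul_smul_comm, map_smul, smul_eq_mul] at hv1
          exact (mul_eq_zero.mp hv1).resolve_left hc
      obtain ⟨g, hg1, hg2⟩ := exists_dual hvu
      refine Has.comm' (w := (v, 0)) (f := fn g 0) (fun c => ?_) (R2 v f hv1) ?_ ?_ ?_ ?_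
      · have : c • fn g (0 : Dual F K) = fn (c • g) 0 := by
          refine LinearMap.ext fun y => ?_
          simp
        rw [this]; exact h1 u _
      · simp [hg1]
      · simp
      · simp
      · simp [hg2]
  rw [fn_eta h]
  intro hu
  have e : fn (h ∘ₗ LinearMap.inl F K K) (h ∘ₗ LinearMap.inr F K K) =
      fn (h ∘ₗ LinearMap.inl F K K) 0 + fn 0 (h ∘ₗ LinearMap.inr F K K) := by
    refine LinearMap.ext fun y => ?_
    simp only [fn_apply, LinearMap.add_apply, LinearMap.zero_apply, add_zero, zero_add]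
  revert hu
  rw [e]
  intro hu
  refine (Has.add_right (h1 u _) (R3 u _) ?_ ?_) hu
  · rw [LinearMap.add_apply, fn_apply, fn_apply] at hu
    simpa only [LinearMap.zero_apply, map_zero, add_zero, fn_apply] using hu
  · rw [fn_apply, LinearMap.zero_apply, map_zero, add_zero]

/-- conjugation of the group. -/
theorem has_conj_iff {V : Type*} [AddCommGroup V] [Module F V] {H : Subgroup (V ≃ₗ[F] V)}
    (s : V ≃ₗ[F] V) {v : V} {f : Dual F V} :
    Has (H.map (MulAut.conj s⁻¹).toMonoidHom) v f ↔ Has H (s v) (f ∘ₗ (s.symm : V →ₗ[F] V)) := by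
  have e : s⁻¹ = s.symm := rfl
  constructor
  · intro h h1
    have h2 : f v = 0 := by simpa using h1
    obtain ⟨t, ht, ht2⟩ := h h2
    have : transvection h1 = t := by
      have h3 : t = s * transvection h2 * s⁻¹ := by
        rw [← ht2]
        change t = s * (s⁻¹ * t * s⁻¹⁻¹) * s⁻¹
        group
      rw [h3]
      refine LinearEquiv.ext fun x => ?_
      simp only [tv_apply, LinearEquiv.mul_apply, e, map_add, map_smul,
        LinearEquiv.apply_symm_apply, LinearMap.comp_apply, LinearEquiv.coe_coe]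
    rw [this]; exact ht
  · intro h h2
    have h1 : (f ∘ₗ (s.symm : V →ₗ[F] V)) (s v) = 0 := by simpa using h2
    refine ⟨transvection h1, h h1, ?_⟩
    change s⁻¹ * transvection h1 * s⁻¹⁻¹ = _
    rw [inv_inv]
    refine LinearEquiv.ext fun x => ?_
    simp only [tv_apply, LinearEquiv.mul_apply, e, map_add, map_smul,
      LinearEquiv.symm_apply_apply, LinearMap.comp_apply, LinearEquiv.coe_coe]

/-- the natural action of `SL₂(K)` on `K × K`, as a group of `F`-linear maps. -/
noncomputable def act (F : Type u) (K : Type v) [Field F] [Field K] [Algebra F K] :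
    Matrix.SpecialLinearGroup (Fin 2) K →* ((K × K) ≃ₗ[F] (K × K)) where
  toFun g :=
    { toFun := fun x => (g.1 0 0 * x.1 + g.1 0 1 * x.2, g.1 1 0 * x.1 + g.1 1 1 * x.2)
      invFun := fun x => (g.1 1 1 * x.1 - g.1 0 1 * x.2, - g.1 1 0 * x.1 + g.1 0 0 * x.2)
      map_add' := fun x y => by
        ext <;> simp only [Prod.fst_add, Prod.snd_add] <;> ring
      map_smul' := fun c x => by
        ext <;> simp only [Prod.smul_fst, Prod.smul_snd, Algebra.mul_smul_comm, smul_add,
          RingHom.id_apply]
      left_inv := fun x => by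
        have h := g.2
        rw [Matrix.det_fin_two] at h
        ext
        · linear_combination x.1 * h
        · linear_combination x.2 * h
      right_inv := fun x => by
        have h := g.2
        rw [Matrix.det_fin_two] at h
        ext
        · linear_combination x.1 * h
        · linear_combination x.2 * h }
  map_one' := by
    refine LinearEquiv.ext fun x => ?_
    ext <;> simp
  map_mul' g h := by
    refine LinearEquiv.ext fun x => ?_
    ext
    · change (g.1 * h.1) 0 0 * x.1 + (g.1 * h.1) 0 1 * x.2 =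
        g.1 0 0 * (h.1 0 0 * x.1 + h.1 0 1 * x.2) + g.1 0 1 * (h.1 1 0 * x.1 + h.1 1 1 * x.2)
      rw [Matrix.mul_apply, Matrix.mul_apply, Fin.sum_univ_two, Fin.sum_univ_two]
      ring
    · change (g.1 * h.1) 1 0 * x.1 + (g.1 * h.1) 1 1 * x.2 =
        g.1 1 0 * (h.1 0 0 * x.1 + h.1 0 1 * x.2) + g.1 1 1 * (h.1 1 0 * x.1 + h.1 1 1 * x.2)
      rw [Matrix.mul_apply, Matrix.mul_apply, Fin.sum_univ_two, Fin.sum_univ_two]
      ring

theorem act_apply (g : Matrix.SpecialLinearGroup (Fin 2) K) (x : K × K) :
    act F K g x = (g.1 0 0 * x.1 + g.1 0 1 * x.2, g.1 1 0 * x.1 + g.1 1 1 * x.2) := rfl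

theorem act_symm_apply (g : Matrix.SpecialLinearGroup (Fin 2) K) (x : K × K) :
    (act F K g).symm x = (g.1 1 1 * x.1 - g.1 0 1 * x.2, - g.1 1 0 * x.1 + g.1 0 0 * x.2) := rfl

/-- **Step 4, one side.** -/
theorem has_left_act [FiniteDimensional F K] (h3 : 3 ≤ finrank F K)
    (g : Matrix.SpecialLinearGroup (Fin 2) K) (ha : g.1 0 0 ≠ 0) (hb : g.1 0 1 ≠ 0)
    (h1 : ∀ (u : K) (f : Dual F K), Has H (u, 0) (fn f 0))
    (h2 : ∀ (u : K) (f : Dual F K),
      Has H (act F K g (u, 0)) (fn f 0 ∘ₗ ((act F K g).symm : (K × K) →ₗ[F] (K × K))))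
    (u : K) (h : Dual F (K × K)) : Has H (u, 0) h := by
  have hdet := g.2
  rw [Matrix.det_fin_two] at hdet
  refine has_left h3 (γ := g.1 1 0 / g.1 0 0) (δ := g.1 1 1 / g.1 0 1) h1 ?_ u h
  intro x f
  have h4 := h2 (x / g.1 0 0) (mulf f (-(1 / g.1 0 1)))
  have e1 : act F K g (x / g.1 0 0, 0) = (x, g.1 1 0 / g.1 0 0 * x) := by
    rw [act_apply]
    ext
    · simp only [mul_zero, add_zero]; field_simp
    · simp only [mul_zero, add_zero]; field_simp
  have e2 : fn (mulf f (-(1 / g.1 0 1))) 0 ∘ₗ ((act F K g).symm : (K × K) →ₗ[F] (K × K)) =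
      fn (-mulf f (g.1 1 1 / g.1 0 1)) f := by
    refine LinearMap.ext fun y => ?_
    rw [LinearMap.comp_apply, LinearEquiv.coe_coe, act_symm_apply, fn_apply, fn_apply,
      LinearMap.zero_apply, add_zero, mulf_apply, LinearMap.neg_apply, mulf_apply, ← map_neg,
      ← map_add]
    congr 1
    field_simp
    ring
  rw [e1, e2] at h4
  exact h4

/-- **Step 4.** `g ∈ SL₂(K)` with four nonzero entries: the block `SL(K × 0; 0 × K)` and its
conjugate by `g` generate `SL(K × K)` (all transvections). -/
theorem has_all_act [FiniteDimensional F K] (h3 : 3 ≤ finrank F K)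
    (g : Matrix.SpecialLinearGroup (Fin 2) K) (hg : ∀ i j, g.1 i j ≠ 0)
    (h1 : ∀ (u : K) (f : Dual F K), Has H (u, 0) (fn f 0))
    (h2 : ∀ (u : K) (f : Dual F K),
      Has H (act F K g (u, 0)) (fn f 0 ∘ₗ ((act F K g).symm : (K × K) →ₗ[F] (K × K))))
    (p : K × K) (h : Dual F (K × K)) : Has H p h := by
  have hA := has_left_act h3 g (hg 0 0) (hg 0 1) h1 h2
  -- the conjugate group
  set s : (K × K) ≃ₗ[F] (K × K) := act F K g with hs
  set H' : Subgroup ((K × K) ≃ₗ[F] (K × K)) := H.map (MulAut.conj s⁻¹).toMonoidHom with hH'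
  have hginv : act F K g⁻¹ = s⁻¹ := map_inv _ _
  have hB := has_left_act (H := H') h3 g⁻¹ (by
      rw [Matrix.SpecialLinearGroup.SL2_inv_expl]; simpa using hg 1 1) (by
      rw [Matrix.SpecialLinearGroup.SL2_inv_expl]; simpa using hg 0 1)
    (fun u f => (has_conj_iff s).mpr (h2 u f)) (fun u f => by
      rw [has_conj_iff, hginv]
      have e1 : s ((s⁻¹) (u, (0 : K))) = (u, 0) := s.apply_symm_apply _
      have e2 : (fn f (0 : Dual F K) ∘ₗ ((s⁻¹).symm : (K × K) →ₗ[F] (K × K))) ∘ₗ
          (s.symm : (K × K) →ₗ[F] (K × K)) = fn f 0 := by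
        refine LinearMap.ext fun y => ?_
        change fn f 0 (s (s.symm y)) = _
        rw [s.apply_symm_apply]
      rw [e1, e2]
      exact h1 u f)
  refine has_all_of_two (U₁ := LinearMap.ker (LinearMap.snd F K K))
    (U₂ := (LinearMap.ker (LinearMap.snd F K K)).map (s : (K × K) →ₗ[F] (K × K))) ?_ ?_ ?_ p h
  · rw [eq_top_iff]
    intro y _
    rw [Submodule.mem_sup]
    have hc := hg 1 0
    refine ⟨(y.1 - g.1 0 0 * (y.2 / g.1 1 0), 0), by simp, act F K g (y.2 / g.1 1 0, 0),
      ⟨(y.2 / g.1 1 0, 0), by simp, rfl⟩, ?_⟩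
    rw [act_apply]
    ext
    · simp
    · simp only [mul_zero, add_zero, Prod.snd_add, zero_add]
      field_simp
  · rintro ⟨a, b⟩ hu f
    have hb : b = 0 := by simpa using hu
    subst hb
    exact hA a f
  · rintro _ ⟨⟨a, b⟩, hu, rfl⟩ f
    have hb : b = 0 := by simpa using hu
    subst hb
    have h4 := (has_conj_iff s).mp (hB a (f ∘ₗ (s : (K × K) →ₗ[F] (K × K))))
    have e : (f ∘ₗ (s : (K × K) →ₗ[F] (K × K))) ∘ₗ (s.symm : (K × K) →ₗ[F] (K × K)) = f := by
      refine LinearMap.ext fun y => ?_
      change f (s (s.symm y)) = _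
      rw [s.apply_symm_apply]
    rw [e] at h4
    exact h4

end Two

end Cfsg.Agent.H917.FP
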