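import Cfsg.Agent.H917.FP.Gen

/-!
Generation of groups of transvections (S5717): the field step and the last (hyperplane) step.
-/

set_option autoImplicit false

namespace Cfsg.Agent.H917.FP

open Module
open LinearEquiv (transvection)

universe u v

section Field

variable {F : Type u} {K : Type v} [Field F] [Field K] [Algebra F K]

variable {H : Subgroup ((K × K) ≃ₗ[F] (K × K))}

/-- every functional on `K` is `f (c · )`. -/
theorem exists_mulf [FiniteDimensional F K] {f : Dual F K} (hf : f ≠ 0) (g : Dual F K) :
    ∃ c : K, mulf f c = g := by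
  let L : K →ₗ[F] Dual F K :=
    { toFun := fun c => mulf f c
      map_add' := fun a b => by
        refine LinearMap.ext fun x => ?_
        simp [add_mul]
      map_smul' := fun r a => by
        refine LinearMap.ext fun x => ?_
        simp }
  have hinj : Function.Injective L := by
    rw [← LinearMap.ker_eq_bot, Submodule.eq_bot_iff]
    intro c hc
    by_contra hc0
    apply hf
    refine LinearMap.ext fun x => ?_
    have h1 : mulf f c (c⁻¹ * x) = 0 := by
      have : L c = 0 := hc
      change (L c) (c⁻¹ * x) = 0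
      rw [this]; rfl
    rw [mulf_apply, mul_inv_cancel_left₀ hc0] at h1
    rw [h1]; rfl
  have hfin : finrank F K = finrank F (Dual F K) := (Subspace.dual_finrank_eq (K := F) (V := K)).symm
  have hsurj : Function.Surjective L :=
    (LinearMap.injective_iff_surjective_of_finrank_eq_finrank hfin).mp hinj
  exact hsurj g

/-- `[[1, c], [0, 1]]` -/
def up (c : K) : Matrix.SpecialLinearGroup (Fin 2) K :=
  ⟨!![1, c; 0, 1], by rw [Matrix.det_fin_two_of]; ring⟩

/-- `[[c, 0], [0, c⁻¹]]` -/
def dg (c : K) (hc : c ≠ 0) : Matrix.SpecialLinearGroup (Fin 2) K :=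
  ⟨!![c, 0; 0, c⁻¹], by rw [Matrix.det_fin_two_of, mul_inv_cancel₀ hc]; ring⟩

/-- `[[0, -1], [1, 0]]` -/
def wy : Matrix.SpecialLinearGroup (Fin 2) K :=
  ⟨!![0, -1; 1, 0], by rw [Matrix.det_fin_two_of]; ring⟩

theorem act_up (c : K) (x : K × K) : act F K (up c) x = (x.1 + c * x.2, x.2) := by
  rw [act_apply]; simp [up]

theorem act_dg (c : K) (hc : c ≠ 0) (x : K × K) :
    act F K (dg c hc) x = (c * x.1, c⁻¹ * x.2) := by
  rw [act_apply]; simp [dg]

theorem act_dg_symm (c : K) (hc : c ≠ 0) (x : K × K) :
    (act F K (dg c hc)).symm x = (c⁻¹ * x.1, c * x.2) := by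
  rw [act_symm_apply]; simp [dg]

theorem act_wy (x : K × K) : act F K wy x = (-x.2, x.1) := by
  rw [act_apply]; simp [wy]

theorem act_wy_symm (x : K × K) : (act F K wy).symm x = (x.2, -x.1) := by
  rw [act_symm_apply]; simp [wy]

/-- **Step 3.** A group containing `SL₂(K)` and its conjugate by one block transvection contains
all transvections of `K × K`. -/
theorem has_all_field [FiniteDimensional F K] {u : K} {f : Dual F K} (hu : u ≠ 0) (hf : f ≠ 0)
    (hfu : fn f 0 (u, (0 : K)) = 0) (h1 : ∀ g, act F K g ∈ H)
    (h2 : ∀ g, transvection hfu * act F K g * (transvection hfu)⁻¹ ∈ H)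
    (p : K × K) (h : Dual F (K × K)) : Has H p h := by
  -- the transvections with vector in `K × 0` and functional on `0 × K`
  have A1 : ∀ g : Dual F K, Has H (u, 0) (fn 0 g) := by
    intro g hg
    obtain ⟨c, rfl⟩ := exists_mulf hf g
    have h3 : transvection hfu * act F K (up c) * (transvection hfu)⁻¹ * (act F K (up c))⁻¹ ∈ H :=
      H.mul_mem (h2 _) (H.inv_mem (h1 _))
    have e : transvection hfu * act F K (up c) * (transvection hfu)⁻¹ * (act F K (up c))⁻¹ =
        transvection hg := by
      rw [mul_inv_eq_iff_eq_mul]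
      refine LinearEquiv.ext fun x => ?_
      have hfu' : f u = 0 := by simpa using hfu
      have e1 : ∀ z : K × K, (transvection hfu)⁻¹ z = (z.1 - f z.1 • u, z.2) := by
        intro z; rw [tv_inv]; ext <;> simp
      have e2 : ∀ z : K × K, transvection hfu z = (z.1 + f z.1 • u, z.2) := by
        intro z; rw [tv_apply]; ext <;> simp
      have e3 : ∀ z : K × K, transvection hg z = (z.1 + f (c * z.2) • u, z.2) := by
        intro z; rw [tv_apply]; ext <;> simp
      rw [LinearEquiv.mul_apply, LinearEquiv.mul_apply, LinearEquiv.mul_apply, e1, act_up, e2, act_up, e3]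
      simp only [map_add, map_sub, map_smul, hfu', smul_zero, sub_zero]
      ext
      · simp only
        module
      · rfl
    rw [e] at h3
    exact h3
  have A2 : ∀ (v : K) (g : Dual F K), Has H (v, 0) (fn 0 g) := by
    intro v g
    rcases eq_or_ne v 0 with rfl | hv
    · exact has_zero_left _
    · have hc : v / u ≠ 0 := div_ne_zero hv hu
      have h3 := (A1 (mulf g (v / u)⁻¹)).conj (h1 (dg (v / u) hc))
      have e1 : act F K (dg (v / u) hc) (u, 0) = (v, 0) := by
        rw [act_dg]; ext
        · simp only; field_simp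
        · simp
      have e2 : fn 0 (mulf g (v / u)⁻¹) ∘ₗ ((act F K (dg (v / u) hc)).symm : (K × K) →ₗ[F] (K × K)) =
          fn 0 g := by
        refine LinearMap.ext fun y => ?_
        rw [LinearMap.comp_apply, LinearEquiv.coe_coe, act_dg_symm, fn_apply, fn_apply,
          LinearMap.zero_apply, LinearMap.zero_apply, zero_add, zero_add, mulf_apply]
        congr 1
        rw [inv_mul_cancel_left₀ hc]
      rw [e1, e2] at h3
      exact h3
  have A3 : ∀ (v : K) (g : Dual F K), Has H (0, v) (fn g 0) := by
    intro v g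
    have h3 := (A2 v (-g)).conj (h1 wy)
    have e1 : act F K wy (v, 0) = (0, v) := by rw [act_wy]; simp
    have e2 : fn 0 (-g) ∘ₗ ((act F K wy).symm : (K × K) →ₗ[F] (K × K)) = fn g 0 := by
      refine LinearMap.ext fun y => ?_
      rw [LinearMap.comp_apply, LinearEquiv.coe_coe, act_wy_symm, fn_apply, fn_apply]
      simp
    rw [e1, e2] at h3
    exact h3
  -- vector in `K × 0`, functional on `K × 0`
  have A4 : ∀ (v : K) (g : Dual F K), Has H (v, 0) (fn g 0) := by
    intro v g hgv
    obtain ⟨k, -, hk⟩ := exists_dual (F := F) (u := (0 : K)) (w := (1 : K)) (by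
      simp)
    refine Has.comm' (w := (0, 1)) (f := fn 0 k) (fun c => ?_) (A3 1 g) ?_ ?_ ?_ ?_ hgv
    · have : c • fn (0 : Dual F K) k = fn 0 (c • k) := by
        refine LinearMap.ext fun y => ?_
        simp
      rw [this]; exact A2 v _
    · simp
    · simp
    · exact hgv
    · simp [hk]
  have A5 : ∀ (v : K) (g : Dual F K), Has H (0, v) (fn 0 g) := by
    intro v g hgv
    obtain ⟨k, -, hk⟩ := exists_dual (F := F) (u := (0 : K)) (w := (1 : K)) (by
      simp)
    refine Has.comm' (w := (1, 0)) (f := fn k 0) (fun c => ?_) (A2 1 g) ?_ ?_ ?_ ?_ hgv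
    · have : c • fn k (0 : Dual F K) = fn (c • k) 0 := by
        refine LinearMap.ext fun y => ?_
        simp
      rw [this]; exact A3 v _
    · simp
    · simp
    · exact hgv
    · simp [hk]
  have B1 : ∀ (v : K) (k : Dual F (K × K)), Has H (v, 0) k := by
    intro v k hk
    have e : k = fn (k ∘ₗ LinearMap.inl F K K) 0 + fn 0 (k ∘ₗ LinearMap.inr F K K) := by
      refine LinearMap.ext fun y => ?_
      conv_lhs => rw [fn_eta k]
      simp only [fn_apply, LinearMap.add_apply, LinearMap.zero_apply, add_zero, zero_add]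
    revert hk
    rw [e]
    intro hk
    refine (Has.add_right (A4 v _) (A2 v _) ?_ ?_) hk
    · rw [LinearMap.add_apply, fn_apply, fn_apply] at hk
      simpa only [LinearMap.zero_apply, map_zero, add_zero, fn_apply] using hk
    · rw [fn_apply, LinearMap.zero_apply, map_zero, add_zero]
  have B2 : ∀ (v : K) (k : Dual F (K × K)), Has H (0, v) k := by
    intro v k hk
    have e : k = fn (k ∘ₗ LinearMap.inl F K K) 0 + fn 0 (k ∘ₗ LinearMap.inr F K K) := by
      refine LinearMap.ext fun y => ?_
      conv_lhs => rw [fn_eta k]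
      simp only [fn_apply, LinearMap.add_apply, LinearMap.zero_apply, add_zero, zero_add]
    revert hk
    rw [e]
    intro hk
    refine (Has.add_right (A3 v _) (A5 v _) ?_ ?_) hk
    · rw [fn_apply, LinearMap.zero_apply, map_zero, add_zero]
    · rw [LinearMap.add_apply, fn_apply, fn_apply] at hk
      simpa only [LinearMap.zero_apply, map_zero, zero_add, fn_apply] using hk
  refine has_all_of_two (U₁ := LinearMap.ker (LinearMap.snd F K K))
    (U₂ := LinearMap.ker (LinearMap.fst F K K)) ?_ ?_ ?_ p h
  · rw [eq_top_iff]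
    intro y _
    rw [Submodule.mem_sup]
    exact ⟨(y.1, 0), by simp, (0, y.2), by simp, by simp⟩
  · rintro ⟨a, b⟩ hu f
    have hb : b = 0 := by simpa using hu
    subst hb
    exact B1 a f
  · rintro ⟨a, b⟩ hu f
    have hb : a = 0 := by simpa using hu
    subst hb
    exact B2 b f

end Field

section Hyp

variable {F : Type u} {V : Type v} [Field F] [AddCommGroup V] [Module F V]
variable {H : Subgroup (V ≃ₗ[F] V)}

/-- **The last step, first half.** -/
theorem has_hyp [FiniteDimensional F V] {U : Submodule F V} {e u : V} {ε : Dual F V}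
    (hU : LinearMap.ker ε = U) (he : ε e = 1) (h3 : 3 ≤ finrank F U) (hu : u ∈ U) (hu0 : u ≠ 0)
    (h1 : ∀ v ∈ U, ∀ f : Dual F V, f e = 0 → Has H v f)
    (h2 : ∀ v ∈ U, ∀ f : Dual F V, f (e + u) = 0 → Has H v f)
    (v : V) (hv : v ∈ U) (f : Dual F V) : Has H v f := by
  have hεU : ∀ x ∈ U, ε x = 0 := fun x hx => by rw [← hU] at hx; exact hx
  -- the generic case
  have gen : ∀ v ∈ U, u ∉ Submodule.span F {v} → ∀ f : Dual F V, Has H v f := by
    intro v hv huv f hfv
    obtain ⟨g, hg1, hg2⟩ := exists_dual huv
    set k : Dual F V := ε - (g - g e • ε) with hk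
    have hke : k e = 1 := by simp [hk, he]
    have hku : k u = -1 := by simp [hk, hεU u hu, hg2]
    have hkv : k v = 0 := by simp [hk, hεU v hv, hg1]
    have e1 : f = (f - f e • k) + f e • k := by abel
    revert hfv
    rw [e1]
    intro hfv
    have hfv' : f v = 0 := by
      rw [← e1] at hfv; exact hfv
    refine (Has.add_right (h1 v hv _ ?_) (h2 v hv _ ?_) ?_ ?_) hfv
    · simp [hke]
    · simp [hke, hku]
    · simp [hfv', hkv]
    · simp [hkv]
  by_cases huv : u ∈ Submodule.span F {v}
  · obtain ⟨c, rfl⟩ := Submodule.mem_span_singleton.mp huv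
    have hc : c ≠ 0 := fun h => hu0 (by rw [h, zero_smul])
    intro hfv
    -- a vector of `U ∩ ker f` outside `F v`
    obtain ⟨w, hwU, hwf, hwv⟩ : ∃ w ∈ U, f w = 0 ∧ w ∉ Submodule.span F {v} := by
      by_contra hcon
      push Not at hcon
      have h4 : LinearMap.ker (f.domRestrict U) ≤ (Submodule.span F {v}).comap U.subtype := by
        intro x hx
        exact hcon x.1 x.2 hx
      have h5 := Submodule.finrank_mono h4
      have h6 : finrank F ((Submodule.span F {v}).comap U.subtype) ≤ 1 := by
        have h7 : finrank F ((Submodule.span F {v}).comap U.subtype) ≤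
            finrank F (Submodule.span F {v}) := by
          rw [← Submodule.finrank_map_subtype_eq U]
          exact Submodule.finrank_mono (Submodule.map_comap_le _ _)
        exact h7.trans ((finrank_span_le_card ({v} : Set V)).trans (by simp))
      have h8 := LinearMap.finrank_range_add_finrank_ker (f.domRestrict U)
      have h9 : finrank F (LinearMap.range (f.domRestrict U)) ≤ 1 := by
        have := Submodule.finrank_le (LinearMap.range (f.domRestrict U))
        simpa using this
      omega
    have k1 : c • v ∉ Submodule.span F {w} := by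
      intro hmem
      obtain ⟨a, ha⟩ := Submodule.mem_span_singleton.mp hmem
      have ha0 : a ≠ 0 := by
        rintro rfl
        rw [zero_smul] at ha
        exact hu0 ha.symm
      apply hwv
      rw [Submodule.mem_span_singleton]
      refine ⟨a⁻¹ * c, ?_⟩
      rw [mul_smul, ← ha, smul_smul, inv_mul_cancel₀ ha0, one_smul]
    have k2 : c • v ∉ Submodule.span F {v - w} := by
      intro hmem
      obtain ⟨a, ha⟩ := Submodule.mem_span_singleton.mp hmem
      have ha0 : a ≠ 0 := by
        rintro rfl
        rw [zero_smul] at ha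
        exact hu0 ha.symm
      apply hwv
      rw [Submodule.mem_span_singleton]
      refine ⟨1 - a⁻¹ * c, ?_⟩
      have : (a⁻¹ * c) • v = v - w := by
        rw [mul_smul, ← ha, smul_smul, inv_mul_cancel₀ ha0, one_smul]
      rw [sub_smul, one_smul, this]
      abel
    have h4 := Has.add_left (gen (v - w) (U.sub_mem hv hwU) k2 f) (gen w hwU k1 f)
      (by rw [map_sub, hfv, hwf, sub_zero]) hwf
    rw [sub_add_cancel] at h4
    exact h4 hfv
  · exact gen v hv huv f

end Hyp

end Cfsg.Agent.H917.FP
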