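import Cfsg.Agent.H917.FP.Basic

/-!
Fixed point ratio calculus for S5717: averages over a finite group `Y` mapped into `G` by a
homomorphism, and transport along homomorphisms.
-/

set_option autoImplicit false

namespace Cfsg.Agent.H917.FP

section

variable {G : Type*} [Group G] (Ω : Type*) [MulAction G Ω]

/-- conjugate of a set. -/
def cj (g : G) (A : Set G) : Set G := (fun a => g * a * g⁻¹) '' A

theorem fpr_cj (A : Set G) (g : G) : fpr Ω (cj g A) = fpr Ω A := fpr_conj Ω A g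

/-- **Cauchy-Schwarz** for the average over a finite group `Y` mapped into `G`. -/
theorem cs_hom [Finite Ω] {Y : Type*} [Group Y] [Fintype Y] (j : Y →* G) (A : Set G) :
    fpr Ω A ^ 2 * (Nat.card Y : ℝ) ≤ ∑ y : Y, fpr Ω (A ∪ cj (j y) A) := by
  classical
  have := Fintype.ofFinite Ω
  rcases Nat.eq_zero_or_pos (Nat.card Ω) with h0 | h0
  · have h1 : ∀ B : Set G, fpr Ω B = 0 := fun B => by unfold fpr; rw [h0]; simp
    simp [h1]
  have hN : (0 : ℝ) < Nat.card Ω := by exact_mod_cast h0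
  have hY : (0 : ℝ) < Nat.card Y := by exact_mod_cast Nat.card_pos
  set P : Ω → ℝ := fun w => ∑ y : Y, ind Ω A ((j y)⁻¹ • w) with hP
  have hsumP : ∑ w, P w = (Nat.card Y : ℝ) * (fpr Ω A * Nat.card Ω) := by
    rw [hP, Finset.sum_comm]
    have : ∀ y : Y, ∑ w : Ω, ind Ω A ((j y)⁻¹ • w) = fpr Ω A * Nat.card Ω := by
      intro y
      rw [← sum_ind]
      exact Fintype.sum_equiv (MulAction.toPerm ((j y)⁻¹)) _ _ (fun w => rfl)
    rw [Finset.sum_congr rfl fun y _ => this y, Finset.sum_const, nsmul_eq_mul,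
      Finset.card_univ, Nat.card_eq_fintype_card (α := Y)]
  have hsq : ∑ w, P w ^ 2 = (Nat.card Y : ℝ) *
      ∑ y : Y, fpr Ω (A ∪ cj (j y) A) * Nat.card Ω := by
    have e1 : ∀ w, P w ^ 2 = ∑ y : Y, ∑ z : Y,
        ind Ω A ((j y)⁻¹ • w) * ind Ω A ((j z)⁻¹ • w) := by
      intro w
      rw [sq, hP, Finset.sum_mul_sum]
    rw [Finset.sum_congr rfl fun w _ => e1 w, Finset.sum_comm]
    have e2 : ∀ y : Y, ∑ w : Ω, ∑ z : Y,
        ind Ω A ((j y)⁻¹ • w) * ind Ω A ((j z)⁻¹ • w) =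
        ∑ z : Y, fpr Ω (A ∪ cj (j z) A) * Nat.card Ω := by
      intro y
      rw [Finset.sum_comm]
      have e3 : ∀ z : Y, ∑ w : Ω, ind Ω A ((j y)⁻¹ • w) * ind Ω A ((j z)⁻¹ • w) =
          ∑ w : Ω, ind Ω A w * ind Ω A ((j (y⁻¹ * z))⁻¹ • w) := by
        intro z
        refine Fintype.sum_equiv (MulAction.toPerm ((j y)⁻¹)) _ _ (fun w => ?_)
        simp only [MulAction.toPerm_apply]
        rw [smul_smul, map_mul, map_inv, mul_inv_rev, inv_inv, mul_assoc,
          mul_inv_cancel, mul_one]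
      rw [Finset.sum_congr rfl fun z _ => e3 z]
      refine Fintype.sum_equiv (Equiv.mulLeft y⁻¹) _ _ (fun z => ?_)
      simp only [Equiv.coe_mulLeft]
      rw [← sum_ind]
      refine Finset.sum_congr rfl fun w _ => ?_
      rw [← ind_mul, cj, ind_conj]
    rw [Finset.sum_congr rfl fun y _ => e2 y, Finset.sum_const, nsmul_eq_mul,
      Finset.card_univ, Nat.card_eq_fintype_card (α := Y)]
  have hCS : (∑ w, P w) ^ 2 ≤ (Nat.card Ω : ℝ) * ∑ w, P w ^ 2 := by
    have := sq_sum_le_card_mul_sum_sq (s := (Finset.univ : Finset Ω)) (f := P)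
    rwa [Finset.card_univ, ← Nat.card_eq_fintype_card] at this
  rw [hsumP, hsq, ← Finset.sum_mul] at hCS
  have h2 : (Nat.card Y : ℝ) * (Nat.card Ω : ℝ) ^ 2 * (fpr Ω A ^ 2 * Nat.card Y) ≤
      (Nat.card Y : ℝ) * (Nat.card Ω : ℝ) ^ 2 * ∑ y : Y, fpr Ω (A ∪ cj (j y) A) := by
    nlinarith [hCS]
  exact le_of_mul_le_mul_left h2 (by positivity)

/-- Cauchy-Schwarz, split form. -/
theorem cs_split_hom [Finite Ω] {Y : Type*} [Group Y] [Finite Y] (j : Y →* G) (A : Set G)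
    (Bad : Set Y) (δ : ℝ) (hδ : 0 ≤ δ)
    (h : ∀ y : Y, y ∉ Bad → fpr Ω (A ∪ cj (j y) A) ≤ δ) :
    fpr Ω A ^ 2 ≤ δ + (Nat.card Bad : ℝ) / Nat.card Y := by
  classical
  have := Fintype.ofFinite Y
  have h1 := cs_hom Ω j A
  have hY : (0 : ℝ) < Nat.card Y := by exact_mod_cast Nat.card_pos
  have h2 : ∑ y : Y, fpr Ω (A ∪ cj (j y) A) ≤ ∑ y : Y, (δ + if y ∈ Bad then 1 else 0) := by
    refine Finset.sum_le_sum fun y _ => ?_
    by_cases hy : y ∈ Bad
    · rw [if_pos hy]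
      have := fpr_le_one Ω (A ∪ cj (j y) A)
      linarith
    · rw [if_neg hy, add_zero]
      exact h y hy
  rw [Finset.sum_add_distrib, Finset.sum_const, nsmul_eq_mul, Finset.card_univ,
    ← Nat.card_eq_fintype_card, Finset.sum_boole] at h2
  have h3 : ((Finset.univ.filter fun y => y ∈ Bad).card : ℝ) = Nat.card Bad := by
    rw [Nat.card_eq_fintype_card, ← Set.toFinset_card]
    congr 2
    ext y; simp
  rw [h3] at h2
  have h4 : fpr Ω A ^ 2 * (Nat.card Y : ℝ) ≤ (δ + (Nat.card Bad : ℝ) / Nat.card Y) *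
      Nat.card Y := by
    rw [add_mul, div_mul_cancel₀ _ hY.ne']
    linarith
  exact le_of_mul_le_mul_right h4 hY

/-- the same with commutators. -/
theorem cs_comm_hom [Finite Ω] {Y : Type*} [Group Y] [Finite Y] (j : Y →* G) (x : G)
    (Bad : Set Y) (δ : ℝ) (hδ : 0 ≤ δ)
    (h : ∀ y : Y, y ∉ Bad → fpr Ω {x * (j y * x⁻¹ * (j y)⁻¹)} ≤ δ) :
    fpr Ω {x} ^ 2 ≤ δ + (Nat.card Bad : ℝ) / Nat.card Y := by
  refine cs_split_hom Ω j {x} Bad δ hδ fun y hy => le_trans ?_ (h y hy)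
  apply fpr_closure_le
  rintro _ rfl
  have h1 : x ∈ Subgroup.closure ({x} ∪ cj (j y) {x}) := Subgroup.subset_closure (Or.inl rfl)
  have h2 : j y * x * (j y)⁻¹ ∈ Subgroup.closure ({x} ∪ cj (j y) {x}) :=
    Subgroup.subset_closure (Or.inr ⟨x, rfl, rfl⟩)
  have h3 := Subgroup.mul_mem _ h1 (Subgroup.inv_mem _ h2)
  have e : x * (j y * x * (j y)⁻¹)⁻¹ = x * (j y * x⁻¹ * (j y)⁻¹) := by group
  rw [e] at h3
  exact h3

/-- averages: a set is fixed at most as often as its elements. -/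
theorem fpr_le_of_mem [Finite Ω] {A : Set G} {a : G} (ha : a ∈ A) : fpr Ω A ≤ fpr Ω {a} :=
  fpr_anti Ω (by rintro _ rfl; exact ha)

end

section Comp

variable {S G : Type*} [Group S] [Group G] {Ω : Type*} [MulAction G Ω]

/-- fixed point ratio of the image of a set under a homomorphism. -/
theorem fpr_comp (φ : S →* G) (A : Set S) :
    @fpr S _ Ω (MulAction.compHom Ω φ) A = fpr Ω (φ '' A) := by
  unfold fpr
  congr 2
  refine Nat.card_congr (Equiv.subtypeEquivRight fun w => ?_)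
  constructor
  · rintro h _ ⟨a, ha, rfl⟩
    exact h a ha
  · intro h a ha
    exact h (φ a) ⟨a, ha, rfl⟩

end Comp

end Cfsg.Agent.H917.FP
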