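import Cfsg.Agent.H917.FP.Supp

/-!
Small support from large support (S5717): iteration of the doubling of the support.
-/

set_option autoImplicit false
set_option linter.unusedSectionVars false

namespace Cfsg.Agent.H917.FP

open Module Matrix
open Cfsg.Agent.H254.BS.PI (supp FixLE Strong WeakM)

section Mat

variable {F : Type} [Field F] {ι : Type} [Fintype ι] [DecidableEq ι]

theorem rank_scalar (A : Matrix ι ι F) (μ : F) :
    (A - Matrix.scalar ι μ).rank =
      finrank F (LinearMap.range (Matrix.toLin' A - μ • (1 : Module.End F (ι → F)))) := by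
  have : Matrix.toLin' A - μ • (1 : Module.End F (ι → F)) =
      Matrix.toLin' (A - Matrix.scalar ι μ) := by
    rw [map_sub]
    congr 1
    ext v i
    by_cases h : i = v
    · subst h; simp [Matrix.toLin'_apply, Matrix.scalar_apply]
    · simp [Matrix.toLin'_apply, Matrix.scalar_apply, h]
  rw [this]
  rfl

theorem supp_le (A : Matrix ι ι F) (μ : F) : supp A ≤ (A - Matrix.scalar ι μ).rank :=
  Nat.sInf_le ⟨μ, rfl⟩

theorem exists_supp (A : Matrix ι ι F) : ∃ μ : F, (A - Matrix.scalar ι μ).rank = supp A := by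
  have h : (Set.range fun μ : F => (A - Matrix.scalar ι μ).rank).Nonempty := ⟨_, ⟨0, rfl⟩⟩
  exact Nat.sInf_mem h

theorem supp_eq_of_rank {A : Matrix ι ι F} {t : ℕ}
    (h : finrank F (LinearMap.range (Matrix.toLin' A - 1)) = t) (ht : 2 * t ≤ Fintype.card ι) :
    supp A = t := by
  have h1 : (A - Matrix.scalar ι 1).rank = t := by rw [rank_scalar, one_smul]; exact h
  apply le_antisymm
  · rw [← h1]; exact supp_le A 1
  · obtain ⟨μ, hμ⟩ := exists_supp A
    rw [← hμ]
    by_cases hμ1 : μ = 1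
    · rw [hμ1, h1]
    · have h2 := rank_add_rank_ge (Matrix.toLin' A) hμ1
      rw [h, ← rank_scalar, Module.finrank_fintype_fun_eq_card] at h2
      omega

theorem supp_le_card (A : Matrix ι ι F) : supp A ≤ Fintype.card ι :=
  (supp_le A 0).trans (Matrix.rank_le_card_width _)

variable {M : Type} [Group M]

/-- the orbits on nonzero columns and rows have length at least `D`. -/
structure LongOrb (D : ℕ) (m : M →* Matrix ι ι F) : Prop where
  col : ∀ v : ι → F, v ≠ 0 → D ≤ Nat.card (Set.range fun y : M => m y *ᵥ v)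
  row : ∀ v : ι → F, v ≠ 0 → D ≤ Nat.card (Set.range fun y : M => v ᵥ* m y)

variable [Finite M] [Fintype F]

theorem card_supp_double (m : M →* Matrix ι ι F) {D : ℕ} (hD : LongOrb D m) (x : M)
    (h4 : 4 * supp (m x) ≤ Fintype.card ι) :
    Nat.card {y : M // supp (m (x * (y * x⁻¹ * y⁻¹))) ≠ 2 * supp (m x)} * D ≤
      2 * Fintype.card F ^ (2 * supp (m x)) * Nat.card M := by
  classical
  obtain ⟨μ, hμ⟩ := exists_supp (m x)
  set s := supp (m x) with hs
  let ρ : M →* Module.End F (ι → F) :=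
    ((Matrix.toLinAlgEquiv' : Matrix ι ι F ≃ₐ[F] _) : Matrix ι ι F →* _).comp m
  have hρ : ∀ y, ρ y = Matrix.toLin' (m y) := fun y => rfl
  set P := ρ x - μ • (1 : Module.End F (ι → F)) with hP
  have hPr : finrank F (LinearMap.range P) = s := by rw [← hμ, rank_scalar]; rfl
  -- the action on columns
  let aV : MulAction M (ι → F) :=
    { smul := fun y v => ρ y v
      one_smul := fun v => by change ρ 1 v = v; rw [map_one]; rfl
      mul_smul := fun y z v => by change ρ (y * z) v = ρ y (ρ z v); rw [map_mul]; rfl }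
  let aD : MulAction M (Dual F (ι → F)) :=
    { smul := fun y f => f ∘ₗ ρ y⁻¹
      one_smul := fun f => by change f ∘ₗ ρ 1⁻¹ = f; rw [inv_one, map_one]; rfl
      mul_smul := fun y z f => by
        change f ∘ₗ ρ (y * z)⁻¹ = (f ∘ₗ ρ z⁻¹) ∘ₗ ρ y⁻¹
        rw [_root_.mul_inv_rev, map_mul]; rfl }
  let S : Set (ι → F) := {w | w ∈ LinearMap.range P ∧ w ≠ 0}
  let T : Set (Dual F (ι → F)) := {f | f ∈ (LinearMap.ker P).dualAnnihilator ∧ f ≠ 0}
  have hdualfin : Finite (Dual F (ι → F)) :=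
    Module.finite_of_finite F
  have hScard : Nat.card S ≤ Fintype.card F ^ s := by
    have h1 : Nat.card S ≤ Nat.card (LinearMap.range P) :=
      Nat.card_le_card_of_injective (fun w : S => (⟨w.1, w.2.1⟩ : LinearMap.range P))
        (fun a b h => Subtype.ext (by simpa using h))
    rw [Module.natCard_eq_pow_finrank (K := F) (V := LinearMap.range P), hPr,
      Nat.card_eq_fintype_card (α := F)] at h1
    exact h1
  have hTcard : Nat.card T ≤ Fintype.card F ^ s := by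
    have h1 : Nat.card T ≤ Nat.card (LinearMap.ker P).dualAnnihilator :=
      Nat.card_le_card_of_injective
        (fun w : T => (⟨w.1, w.2.1⟩ : (LinearMap.ker P).dualAnnihilator))
        (fun a b h => Subtype.ext (by simpa using h))
    have h2 : finrank F (LinearMap.ker P).dualAnnihilator = s := by
      have h3 := Subspace.finrank_add_finrank_dualAnnihilator_eq (LinearMap.ker P)
      have h4 := LinearMap.finrank_range_add_finrank_ker P
      omega
    rw [Module.natCard_eq_pow_finrank (K := F) (V := (LinearMap.ker P).dualAnnihilator), h2,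
      Nat.card_eq_fintype_card (α := F)] at h1
    exact h1
  have c1 := count_meet (M := M) S D (fun a ha => by
    have h1 := hD.col a ha.2
    exact h1)
  have c2 := count_meet (M := M) T D (fun f hf => by
    -- the row of `f`
    set r : ι → F := fun i => f (Pi.single i 1) with hr
    have hfr : ∀ v, f v = r ⬝ᵥ v := by
      intro v
      conv_lhs => rw [← Finset.univ_sum_single v, map_sum]
      refine Finset.sum_congr rfl fun i _ => ?_
      rw [hr]
      have : (Pi.single i (v i) : ι → F) = v i • Pi.single i 1 := by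
        ext j
        by_cases hj : j = i
        · subst hj; simp
        · simp [hj]
      rw [this, map_smul, smul_eq_mul, mul_comm]
    have hr0 : r ≠ 0 := by
      intro h0
      apply hf.2
      ext i
      simp [hfr, h0]
    have h1 := hD.row r hr0
    refine h1.trans ?_
    have hfin : Finite (MulAction.orbit M f) := Set.toFinite _
    refine Nat.card_le_card_of_injective
      (fun w : Set.range (fun y : M => r ᵥ* m y) =>
        (⟨f ∘ₗ ρ w.2.choose, ⟨(w.2.choose)⁻¹, by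
          change f ∘ₗ ρ ((w.2.choose)⁻¹)⁻¹ = _; rw [inv_inv]⟩⟩ : MulAction.orbit M f)) ?_
    intro a b hab
    have h2 : f ∘ₗ ρ a.2.choose = f ∘ₗ ρ b.2.choose := congrArg Subtype.val hab
    apply Subtype.ext
    rw [← a.2.choose_spec, ← b.2.choose_spec]
    change r ᵥ* m a.2.choose = r ᵥ* m b.2.choose
    ext i
    have h3 := LinearMap.congr_fun h2 (Pi.single i 1)
    rw [LinearMap.comp_apply, LinearMap.comp_apply, hfr, hfr, hρ, hρ, Matrix.toLin'_apply,
      Matrix.toLin'_apply, Matrix.dotProduct_mulVec, Matrix.dotProduct_mulVec] at h3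
    simpa using h3)
  -- bad elements
  have hbad : Nat.card {y : M // supp (m (x * (y * x⁻¹ * y⁻¹))) ≠ 2 * s} ≤
      Nat.card {y : M // ∃ a ∈ S, y • a ∈ S} + Nat.card {y : M // ∃ f ∈ T, y • f ∈ T} := by
    have h1 : ∀ y : M, supp (m (x * (y * x⁻¹ * y⁻¹))) ≠ 2 * s →
        (∃ a ∈ S, y • a ∈ S) ∨ (∃ f ∈ T, y • f ∈ T) := by
      intro y hy
      by_contra hcon
      rw [not_or] at hcon
      obtain ⟨hn1, hn2⟩ := hcon
      apply hy
      apply supp_eq_of_rank _ (by omega)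
      have h5 := rank_comm ρ x y μ
        (fun w hw hw0 hcon => hn1 ⟨w, ⟨hw, hw0⟩, hcon, fun h0 => hw0 (by
          have h6 : ρ y⁻¹ (ρ y w) = w := by
            rw [← Module.End.mul_apply, ← map_mul, inv_mul_cancel, map_one, Module.End.one_apply]
          have h7 : ρ y w = 0 := h0
          rw [← h6, h7, map_zero])⟩)
        (fun f hf hf0 hcon => hn2 ⟨f, ⟨hf, hf0⟩, hcon, fun h0 => hf0 (by
          ext1 i
          have h6 : ρ y⁻¹ (ρ y (Pi.single i 1)) = Pi.single i 1 := by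
            rw [← Module.End.mul_apply, ← map_mul, inv_mul_cancel, map_one, Module.End.one_apply]
          have h7 : f ∘ₗ ρ y⁻¹ = 0 := h0
          have h8 := LinearMap.congr_fun h7 (ρ y (Pi.single i 1))
          rw [LinearMap.comp_apply, h6] at h8
          ext; simpa using h8)⟩)
      rw [← hP, hPr] at h5
      exact h5
    have h2 : Nat.card {y : M // supp (m (x * (y * x⁻¹ * y⁻¹))) ≠ 2 * s} ≤
        Nat.card ({y : M // ∃ a ∈ S, y • a ∈ S} ⊕ {y : M // ∃ f ∈ T, y • f ∈ T}) := by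
      refine Nat.card_le_card_of_injective
        (fun y => if h : ∃ a ∈ S, y.1 • a ∈ S then Sum.inl ⟨y.1, h⟩ else
          Sum.inr ⟨y.1, (h1 y.1 y.2).resolve_left h⟩) ?_
      intro y z hyz
      dsimp only at hyz
      apply Subtype.ext
      by_cases hy : ∃ a ∈ S, y.1 • a ∈ S
      · by_cases hz : ∃ a ∈ S, z.1 • a ∈ S
        · rw [dif_pos hy, dif_pos hz] at hyz
          simpa using hyz
        · rw [dif_pos hy, dif_neg hz] at hyz
          cases hyz
      · by_cases hz : ∃ a ∈ S, z.1 • a ∈ S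
        · rw [dif_neg hy, dif_pos hz] at hyz
          cases hyz
        · rw [dif_neg hy, dif_neg hz] at hyz
          simpa using hyz
    rw [Nat.card_sum] at h2
    exact h2
  have c1' : Nat.card {y : M // ∃ a ∈ S, y • a ∈ S} * D ≤
      Fintype.card F ^ (2 * s) * Nat.card M := by
    refine c1.trans (Nat.mul_le_mul_right _ ?_)
    calc Nat.card S ^ 2 ≤ (Fintype.card F ^ s) ^ 2 := Nat.pow_le_pow_left hScard 2
      _ = Fintype.card F ^ (2 * s) := by rw [← pow_mul, mul_comm]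
  have c2' : Nat.card {y : M // ∃ f ∈ T, y • f ∈ T} * D ≤
      Fintype.card F ^ (2 * s) * Nat.card M := by
    refine c2.trans (Nat.mul_le_mul_right _ ?_)
    calc Nat.card T ^ 2 ≤ (Fintype.card F ^ s) ^ 2 := Nat.pow_le_pow_left hTcard 2
      _ = Fintype.card F ^ (2 * s) := by rw [← pow_mul, mul_comm]
  calc _ ≤ (Nat.card {y : M // ∃ a ∈ S, y • a ∈ S} + Nat.card {y : M // ∃ f ∈ T, y • f ∈ T}) * D :=
        Nat.mul_le_mul_right _ hbad
    _ ≤ Fintype.card F ^ (2 * s) * Nat.card M + Fintype.card F ^ (2 * s) * Nat.card M := by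
        rw [add_mul]; exact Nat.add_le_add c1' c2'
    _ = 2 * Fintype.card F ^ (2 * s) * Nat.card M := by ring

theorem fpr_double {Ω : Type} [Finite Ω] [MulAction M Ω] (m : M →* Matrix ι ι F) {D : ℕ}
    (hD0 : 0 < D) (hD : LongOrb D m) (x : M) (h4 : 4 * supp (m x) ≤ Fintype.card ι) {δ : ℝ}
    (hδ : 0 ≤ δ) (h : ∀ z : M, supp (m z) = 2 * supp (m x) → fpr Ω {z} ≤ δ) :
    fpr Ω {x} ^ 2 ≤ δ + 2 * (Fintype.card F : ℝ) ^ (2 * supp (m x)) / D := by
  have h1 := cs_comm_hom Ω (MonoidHom.id M) x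
    {y : M | supp (m (x * (y * x⁻¹ * y⁻¹))) ≠ 2 * supp (m x)} δ hδ (fun y hy => by
      refine h _ ?_
      by_contra hne
      exact hy hne)
  refine h1.trans ?_
  have h2 := card_supp_double m hD x h4
  have hM : (0 : ℝ) < Nat.card M := by exact_mod_cast Nat.card_pos
  have hD' : (0 : ℝ) < D := by exact_mod_cast hD0
  have h3 : (Nat.card {y : M | supp (m (x * (y * x⁻¹ * y⁻¹))) ≠ 2 * supp (m x)} : ℝ) /
      Nat.card M ≤ 2 * (Fintype.card F : ℝ) ^ (2 * supp (m x)) / D := by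
    rw [div_le_div_iff₀ hM hD']
    exact_mod_cast h2
  linarith

end Mat

/-- the constants of the iteration. -/
def cc : ℕ → ℕ
  | 0 => 0
  | (i + 1) => (cc i + 1) ^ 2

theorem cc_mono : Monotone cc := by
  refine monotone_nat_of_le_succ fun i => ?_
  change cc i ≤ (cc i + 1) ^ 2
  nlinarith

section Iter

variable {F : Type} [Field F] [Fintype F] {ι : Type} [Fintype ι] [DecidableEq ι]
  {M : Type} [Group M] [Finite M]

theorem fpr_iter {Ω : Type} [Finite Ω] [MulAction M Ω] (m : M →* Matrix ι ι F) {D : ℕ}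
    (hD0 : 0 < D) (hD : LongOrb D m) {ε : ℝ} (hε0 : 0 ≤ ε) (hε1 : ε ≤ 1) (i : ℕ) (x : M)
    (h4 : 2 * (2 ^ i * supp (m x)) ≤ Fintype.card ι)
    (hε : 2 * (Fintype.card F : ℝ) ^ (2 * (2 ^ i * supp (m x))) / D ≤ ε) :
    ∀ δ : ℝ, 0 ≤ δ → (∀ z : M, supp (m z) = 2 ^ i * supp (m x) → fpr Ω {z} ≤ δ) →
    fpr Ω {x} ^ (2 ^ i) ≤ cc i * ε + δ := by
  have hq : (1 : ℝ) ≤ Fintype.card F := by exact_mod_cast Fintype.card_pos
  have hD' : (0 : ℝ) < D := by exact_mod_cast hD0
  induction i with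
  | zero =>
    intro δ hδ h
    have := h x (by simp)
    simpa [cc] using this
  | succ i ih =>
    intro δ hδ h
    have e1 : 2 ^ (i + 1) * supp (m x) = 2 * (2 ^ i * supp (m x)) := by ring
    have h5 : 2 ^ i * supp (m x) ≤ 2 ^ (i + 1) * supp (m x) := by
      rw [e1]; omega
    have hεi : 2 * (Fintype.card F : ℝ) ^ (2 * (2 ^ i * supp (m x))) / D ≤ ε := by
      refine le_trans ?_ hε
      gcongr
    have key : ∀ z : M, supp (m z) = 2 ^ i * supp (m x) → fpr Ω {z} ≤ min 1 √(δ + ε) := by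
      intro z hz
      refine le_min (fpr_le_one Ω _) (Real.le_sqrt_of_sq_le ?_)
      have h6 := fpr_double (Ω := Ω) m hD0 hD z (by rw [hz]; omega) hδ
        (fun w hw => h w (by rw [hw, hz, e1]))
      rw [hz] at h6
      linarith
    have h7 := ih (by omega) hεi (min 1 √(δ + ε)) (by positivity) key
    set a := min 1 √(δ + ε) with ha
    have ha0 : 0 ≤ a := by positivity
    have ha1 : a ≤ 1 := min_le_left _ _
    have ha2 : a ^ 2 ≤ δ + ε := by
      calc a ^ 2 ≤ √(δ + ε) ^ 2 := by gcongr; exact min_le_right _ _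
        _ = δ + ε := Real.sq_sqrt (by positivity)
    have hx0 : 0 ≤ fpr Ω ({x} : Set M) ^ 2 ^ i := pow_nonneg (fpr_nonneg Ω _) _
    have hc0 : (0 : ℝ) ≤ cc i := by positivity
    calc fpr Ω {x} ^ (2 ^ (i + 1)) = (fpr Ω {x} ^ (2 ^ i)) ^ 2 := by rw [← pow_mul, pow_succ]
      _ ≤ (cc i * ε + a) ^ 2 := by gcongr
      _ = (cc i) ^ 2 * (ε * ε) + 2 * (cc i * ε) * a + a ^ 2 := by ring
      _ ≤ (cc i) ^ 2 * (ε * 1) + 2 * (cc i * ε) * 1 + (δ + ε) := by gcongr
      _ = (cc (i + 1) : ℕ) * ε + δ := by simp only [cc]; push_cast; ring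

/-- the large support bound. -/
def LargeFix (s0 C1 : ℕ) (m : M →* Matrix ι ι F) : Prop :=
  ∀ x : M, s0 ≤ supp (m x) → ∀ (Ω : Type) [Finite Ω] [MulAction M Ω],
    (∀ ω : Ω, ∃ g : M, g • ω ≠ ω) → fpr Ω {x} ^ C1 * (Fintype.card F : ℝ) ^ supp (m x) ≤ C1

end Iter

/-- number of doublings -/
theorem exists_doubling (s0 s : ℕ) (hs : 1 ≤ s) (h : s < s0) :
    ∃ i : ℕ, i ≤ s0 ∧ s0 ≤ 2 ^ i * s ∧ 2 ^ i * s < 2 * s0 := by
  have hex : ∃ i : ℕ, s0 ≤ 2 ^ i * s := ⟨s0, by
    calc s0 ≤ 2 ^ s0 * 1 := by rw [mul_one]; exact Nat.lt_two_pow_self.le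
      _ ≤ 2 ^ s0 * s := Nat.mul_le_mul_left _ hs⟩
  classical
  refine ⟨Nat.find hex, ?_, Nat.find_spec hex, ?_⟩
  · refine Nat.find_min' hex ?_
    calc s0 ≤ 2 ^ s0 * 1 := by rw [mul_one]; exact Nat.lt_two_pow_self.le
      _ ≤ 2 ^ s0 * s := Nat.mul_le_mul_left _ hs
  · rcases Nat.eq_zero_or_pos (Nat.find hex) with h0 | h0
    · rw [h0]; omega
    · have h1 := Nat.find_min hex (m := Nat.find hex - 1) (by omega)
      have h2 : 2 ^ (Nat.find hex) * s = 2 * (2 ^ (Nat.find hex - 1) * s) := by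
        conv_lhs => rw [show Nat.find hex = (Nat.find hex - 1) + 1 by omega]
        rw [pow_succ]; ring
      rw [h2]
      omega

/-- **Small support, ratio bound.** -/
theorem strong_fix (s0 C1 : ℕ) (hC1 : 0 < C1) : ∃ C : ℕ, 0 < C ∧
    ∀ (F : Type) [Field F] [Fintype F] (ι : Type) [Fintype ι] [DecidableEq ι]
      (M : Type) [Group M] [Finite M] (m : M →* Matrix ι ι F) (D : ℕ),
      24 * s0 ≤ Fintype.card ι → 0 < D → LongOrb D m →
      (Fintype.card F) ^ (Fintype.card ι) ≤ D ^ 4 → LargeFix s0 C1 m →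
      ∀ x : M, 1 ≤ supp (m x) → ∀ (Ω : Type) [Finite Ω] [MulAction M Ω],
        (∀ ω : Ω, ∃ g : M, g • ω ≠ ω) →
        fpr Ω {x} ^ C * (Fintype.card F : ℝ) ^ supp (m x) ≤ C := by
  refine ⟨2 ^ s0 * C1 + 2 ^ C1 * ((2 * cc s0) ^ C1 + C1), by positivity, ?_⟩
  intro F _ _ ι _ _ M _ _ m D hN hD0 hD hDq hL x hx Ω _ _ hΩ
  set C : ℕ := 2 ^ s0 * C1 + 2 ^ C1 * ((2 * cc s0) ^ C1 + C1) with hC
  have hq2 : (2 : ℝ) ≤ Fintype.card F := by exact_mod_cast Fintype.one_lt_card
  have hq0 : (0 : ℝ) < Fintype.card F := by linarith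
  have hq1 : (1 : ℝ) ≤ Fintype.card F := by linarith
  have hf0 := fpr_nonneg Ω ({x} : Set M)
  have hf1 := fpr_le_one Ω ({x} : Set M)
  have hp : 1 ≤ 2 ^ s0 := Nat.one_le_two_pow
  have hp' : 1 ≤ 2 ^ C1 := Nat.one_le_two_pow
  by_cases hs : s0 ≤ supp (m x)
  · have h1 := hL x hs Ω hΩ
    have hC1C : C1 ≤ C := by
      rw [hC]
      calc C1 = 1 * C1 := (one_mul _).symm
        _ ≤ 2 ^ s0 * C1 := Nat.mul_le_mul_right _ hp
        _ ≤ _ := Nat.le_add_right _ _
    calc fpr Ω {x} ^ C * (Fintype.card F : ℝ) ^ supp (m x)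
        ≤ fpr Ω {x} ^ C1 * (Fintype.card F : ℝ) ^ supp (m x) := by
          gcongr ?_ * _
          exact pow_le_pow_of_le_one hf0 hf1 hC1C
      _ ≤ C1 := h1
      _ ≤ C := by exact_mod_cast hC1C
  · rw [not_le] at hs
    obtain ⟨i, hi1, hi2, hi3⟩ := exists_doubling s0 (supp (m x)) hx hs
    set t := 2 ^ i * supp (m x) with ht
    have hD' : (0 : ℝ) < D := by exact_mod_cast hD0
    -- `D ≥ q^(3t)`
    have hD3 : (Fintype.card F : ℝ) ^ (3 * t) ≤ D := by
      have h1 : (Fintype.card F) ^ (4 * (3 * t)) ≤ D ^ 4 :=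
        (Nat.pow_le_pow_right Fintype.card_pos (by omega)).trans hDq
      rw [mul_comm 4, pow_mul] at h1
      exact_mod_cast (Nat.pow_le_pow_iff_left (by norm_num)).mp h1
    have hε : 2 * (Fintype.card F : ℝ) ^ (2 * t) / D ≤ 2 / (Fintype.card F : ℝ) ^ t := by
      rw [div_le_div_iff₀ hD' (by positivity)]
      calc 2 * (Fintype.card F : ℝ) ^ (2 * t) * (Fintype.card F : ℝ) ^ t
          = 2 * (Fintype.card F : ℝ) ^ (3 * t) := by rw [mul_assoc, ← pow_add]; congr 2; ring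
        _ ≤ 2 * D := by gcongr
    have ht1 : 1 ≤ t := by omega
    have hε1 : 2 / (Fintype.card F : ℝ) ^ t ≤ 1 := by
      rw [div_le_one (by positivity)]
      calc (2 : ℝ) ≤ Fintype.card F := hq2
        _ = (Fintype.card F : ℝ) ^ 1 := (pow_one _).symm
        _ ≤ (Fintype.card F : ℝ) ^ t := pow_le_pow_right₀ hq1 ht1
    -- the bound at support `t`
    set δ : ℝ := ((C1 : ℝ) / (Fintype.card F : ℝ) ^ t) ^ ((1 : ℝ) / C1) with hδ
    have hbase : (0 : ℝ) ≤ (C1 : ℝ) / (Fintype.card F : ℝ) ^ t := by positivity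
    have hδ0 : 0 ≤ δ := Real.rpow_nonneg hbase _
    have hC1' : (C1 : ℝ) ≠ 0 := by exact_mod_cast hC1.ne'
    have hδC : δ ^ C1 = (C1 : ℝ) / (Fintype.card F : ℝ) ^ t := by
      rw [hδ, ← Real.rpow_natCast, ← Real.rpow_mul hbase, one_div_mul_cancel hC1', Real.rpow_one]
    have h1 := fpr_iter (Ω := Ω) m hD0 hD (ε := 2 / (Fintype.card F : ℝ) ^ t) (by positivity)
      hε1 i x (by rw [← ht]; omega) (by rw [← ht]; exact hε) δ hδ0 (fun z hz => by
        have h2 := hL z (by rw [hz, ← ht]; exact hi2) Ω hΩ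
        rw [hz, ← ht, ← le_div_iff₀ (by positivity), ← hδC] at h2
        exact (pow_le_pow_iff_left₀ (fpr_nonneg Ω _) hδ0 hC1.ne').mp h2)
    have hcc : (cc i : ℝ) ≤ cc s0 := by exact_mod_cast cc_mono hi1
    set Q : ℝ := (Fintype.card F : ℝ) ^ t with hQ
    have hQ1 : 1 ≤ Q := one_le_pow₀ hq1
    have hQ0 : 0 < Q := by linarith
    -- take the `C1`-th power
    have h3 : fpr Ω {x} ^ (2 ^ i * C1) * Q ≤ 2 ^ C1 * ((2 * cc s0) ^ C1 + C1) := by
      rw [pow_mul]
      have h4 : (cc i * (2 / Q) + δ) ^ C1 ≤ 2 ^ C1 * ((cc i * (2 / Q)) ^ C1 + δ ^ C1) := by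
        have ha : (0 : ℝ) ≤ cc i * (2 / Q) := by positivity
        have h5 := add_pow_le ha hδ0 C1
        refine h5.trans ?_
        gcongr
        · norm_num
        · omega
      have h6 : (cc i * (2 / Q)) ^ C1 ≤ (2 * cc s0) ^ C1 / Q := by
        have e : (cc i : ℝ) * (2 / Q) = (2 * cc i) / Q := by ring
        rw [e, div_pow]
        have : Q ≤ Q ^ C1 := by
          calc Q = Q ^ 1 := (pow_one _).symm
            _ ≤ Q ^ C1 := pow_le_pow_right₀ hQ1 hC1
        gcongr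
      calc (fpr Ω {x} ^ 2 ^ i) ^ C1 * Q ≤ (cc i * (2 / Q) + δ) ^ C1 * Q := by
            gcongr
        _ ≤ (2 ^ C1 * ((cc i * (2 / Q)) ^ C1 + δ ^ C1)) * Q := by gcongr
        _ ≤ (2 ^ C1 * ((2 * cc s0) ^ C1 / Q + C1 / Q)) * Q := by rw [hδC]; gcongr
        _ = 2 ^ C1 * ((2 * cc s0) ^ C1 + C1) := by field_simp
    have hCle : 2 ^ i * C1 ≤ C := by
      rw [hC]
      calc 2 ^ i * C1 ≤ 2 ^ s0 * C1 := Nat.mul_le_mul_right _ (Nat.pow_le_pow_right (by norm_num) hi1)
        _ ≤ _ := Nat.le_add_right _ _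
    have hst : supp (m x) ≤ t := by
      rw [ht]
      calc supp (m x) = 1 * supp (m x) := (one_mul _).symm
        _ ≤ 2 ^ i * supp (m x) := Nat.mul_le_mul_right _ Nat.one_le_two_pow
    calc fpr Ω {x} ^ C * (Fintype.card F : ℝ) ^ supp (m x)
        ≤ fpr Ω {x} ^ (2 ^ i * C1) * Q := by
          gcongr ?_ * ?_
          · exact pow_le_pow_of_le_one hf0 hf1 hCle
          · exact pow_le_pow_right₀ hq1 hst
      _ ≤ 2 ^ C1 * ((2 * cc s0) ^ C1 + C1) := h3
      _ ≤ C := by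
          rw [hC]
          push_cast
          have : (0 : ℝ) ≤ 2 ^ s0 * C1 := by positivity
          linarith

/-- **Small support, nontrivial bound.** -/
theorem strong_triv (C : ℕ) (hC : 0 < C) : ∃ N0 C' : ℕ, 0 < C' ∧
    ∀ (F : Type) [Field F] [Fintype F] (ι : Type) [Fintype ι] [DecidableEq ι]
      (M : Type) [Group M] [Finite M] (m : M →* Matrix ι ι F) (D : ℕ),
      N0 ≤ Fintype.card ι → 0 < D → LongOrb D m →
      (Fintype.card F) ^ (Fintype.card ι) ≤ D ^ 4 →
      ∀ (Ω : Type) [Finite Ω] [MulAction M Ω],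
      (∀ x : M, 1 ≤ supp (m x) → fpr Ω {x} ^ C * (Fintype.card F : ℝ) ^ supp (m x) ≤ C) →
      ∀ x : M, 1 ≤ supp (m x) → fpr Ω {x} ≤ 1 - 1 / C' := by
  set s2 := 2 * C with hs2
  set K := 8 * cc s2 with hK
  refine ⟨4 * (4 * s2 + K), 4 * 2 ^ s2, by positivity, ?_⟩
  intro F _ _ ι _ _ M _ _ m D hN hD0 hD hDq Ω _ _ hL x hx
  have hq2 : (2 : ℝ) ≤ Fintype.card F := by exact_mod_cast Fintype.one_lt_card
  have hq0 : (0 : ℝ) < Fintype.card F := by linarith
  have hq1 : (1 : ℝ) ≤ Fintype.card F := by linarith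
  have hf0 := fpr_nonneg Ω ({x} : Set M)
  have hf1 := fpr_le_one Ω ({x} : Set M)
  have hD' : (0 : ℝ) < D := by exact_mod_cast hD0
  -- large support: at most one half
  have hhalf : ∀ z : M, s2 ≤ supp (m z) → fpr Ω {z} ≤ 1 / 2 := by
    intro z hz
    have h1 := hL z (by omega)
    have h2 : (2 : ℝ) ^ s2 ≤ (Fintype.card F : ℝ) ^ supp (m z) := by
      calc (2 : ℝ) ^ s2 ≤ (Fintype.card F : ℝ) ^ s2 := by gcongr
        _ ≤ (Fintype.card F : ℝ) ^ supp (m z) := pow_le_pow_right₀ hq1 hz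
    have hz0 := fpr_nonneg Ω ({z} : Set M)
    have h3 : fpr Ω {z} ^ C * 2 ^ s2 ≤ C := le_trans (by gcongr) h1
    have h4 : (C : ℝ) ≤ 2 ^ C := by exact_mod_cast Nat.lt_two_pow_self.le
    have h5 : (2 : ℝ) ^ s2 = 2 ^ C * 2 ^ C := by rw [hs2, two_mul, pow_add]
    have h6 : fpr Ω {z} ^ C * 2 ^ C ≤ 1 := by
      have hp : (0 : ℝ) < 2 ^ C := by positivity
      rw [h5, ← mul_assoc] at h3
      by_contra hcon
      rw [not_le] at hcon
      have : (2 : ℝ) ^ C < fpr Ω {z} ^ C * 2 ^ C * 2 ^ C := by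
        calc (2 : ℝ) ^ C = 1 * 2 ^ C := (one_mul _).symm
          _ < fpr Ω {z} ^ C * 2 ^ C * 2 ^ C := by gcongr
      linarith
    rw [← mul_pow] at h6
    have h7 : fpr Ω {z} * 2 ≤ 1 := by
      by_contra hcon
      rw [not_le] at hcon
      exact absurd h6 (not_le.mpr (one_lt_pow₀ hcon hC.ne'))
    linarith
  have hC'1 : (1 : ℝ) ≤ 4 * 2 ^ s2 := by
    have : (1 : ℝ) ≤ 2 ^ s2 := one_le_pow₀ (by norm_num)
    linarith
  by_cases hs : s2 ≤ supp (m x)
  · have h1 := hhalf x hs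
    have h2 : (1 : ℝ) / ((4 * 2 ^ s2 : ℕ) : ℝ) ≤ 1 / 2 := by
      push_cast
      have : (1 : ℝ) ≤ 2 ^ s2 := one_le_pow₀ (by norm_num)
      gcongr
      linarith
    linarith
  · rw [not_le] at hs
    obtain ⟨i, hi1, hi2, hi3⟩ := exists_doubling s2 (supp (m x)) hx hs
    set t := 2 ^ i * supp (m x) with ht
    have hDK : (Fintype.card F : ℝ) ^ (2 * t) * 2 ^ K ≤ D := by
      have h1 : (Fintype.card F) ^ (4 * (2 * t + K)) ≤ D ^ 4 :=
        (Nat.pow_le_pow_right Fintype.card_pos (by omega)).trans hDq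
      rw [mul_comm 4, pow_mul] at h1
      have h2 : (Fintype.card F : ℝ) ^ (2 * t + K) ≤ D := by
        exact_mod_cast (Nat.pow_le_pow_iff_left (by norm_num)).mp h1
      rw [pow_add] at h2
      refine le_trans ?_ h2
      gcongr
    have hε : 2 * (Fintype.card F : ℝ) ^ (2 * t) / D ≤ 2 / 2 ^ K := by
      rw [div_le_div_iff₀ hD' (by positivity)]
      linarith
    by_cases hc0 : cc s2 = 0
    · -- impossible : `s2 ≥ 1`
      exfalso
      have : cc 1 ≤ cc s2 := cc_mono (by omega)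
      rw [hc0] at this
      exact absurd this (by norm_num [cc])
    have hcpos : (1 : ℝ) ≤ cc s2 := by exact_mod_cast Nat.one_le_iff_ne_zero.mpr hc0
    have hKle : (8 : ℝ) * cc s2 ≤ 2 ^ K := by
      have : K ≤ 2 ^ K := Nat.lt_two_pow_self.le
      calc (8 : ℝ) * cc s2 = (K : ℕ) := by rw [hK]; push_cast; ring
        _ ≤ ((2 ^ K : ℕ) : ℝ) := by exact_mod_cast this
        _ = 2 ^ K := by push_cast; rfl
    have hε1 : (2 : ℝ) / 2 ^ K ≤ 1 := by
      rw [div_le_one (by positivity)]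
      linarith
    have h1 := fpr_iter (Ω := Ω) m hD0 hD (ε := 2 / 2 ^ K) (by positivity) hε1 i x
      (by rw [← ht]; omega) (by rw [← ht]; exact hε) (1 / 2) (by norm_num)
      (fun z hz => hhalf z (by rw [hz, ← ht]; exact hi2))
    have hcc : (cc i : ℝ) ≤ cc s2 := by exact_mod_cast cc_mono hi1
    have h2 : (cc i : ℝ) * (2 / 2 ^ K) ≤ 1 / 4 := by
      have hp : (0 : ℝ) < 2 ^ K := by positivity
      calc (cc i : ℝ) * (2 / 2 ^ K) ≤ cc s2 * (2 / 2 ^ K) := by gcongr
        _ = (8 * cc s2) / 2 ^ K / 4 := by ring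
        _ ≤ 1 / 4 := by
            gcongr
            rw [div_le_one hp]
            exact hKle
    have h3 : fpr Ω {x} ^ 2 ^ i ≤ 3 / 4 := by linarith
    by_contra hcon
    rw [not_le] at hcon
    set c : ℝ := 1 / ((4 * 2 ^ s2 : ℕ) : ℝ) with hc
    have hcle : c ≤ 1 := by
      rw [hc]
      push_cast
      rw [div_le_one (by positivity)]
      exact hC'1
    have hc0' : 0 < c := by rw [hc]; positivity
    have h4 : (1 - c) ^ 2 ^ i < fpr Ω {x} ^ 2 ^ i :=
      pow_lt_pow_left₀ hcon (by linarith) (by positivity)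
    have h5 := one_add_mul_le_pow (a := -c) (by linarith) (2 ^ i)
    have h6 : ((2 ^ i : ℕ) : ℝ) * c ≤ 1 / 4 := by
      rw [hc]
      push_cast
      have h7 : (2 : ℝ) ^ i ≤ 2 ^ s2 := pow_le_pow_right₀ (by norm_num) hi1
      have h8 : (0 : ℝ) < 2 ^ s2 := by positivity
      rw [mul_one_div, div_le_div_iff₀ (by positivity) (by norm_num)]
      linarith
    have h9 : (1 : ℝ) + -c = 1 - c := by ring
    rw [h9] at h5
    linarith

end Cfsg.Agent.H917.FP
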