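import Cfsg.Agent.H917.FP.TV
import Cfsg.Agent.S0242

/-!
The inequalities of the doubling steps (S5717).
-/

set_option autoImplicit false

namespace Cfsg.Agent.H917.FP

open Module
open LinearEquiv (transvection)

universe u v w x

theorem card_SL2 {F : Type u} [Field F] [Finite F] : Nat.card (Matrix.SpecialLinearGroup (Fin 2) F) =
    Nat.card F * (Nat.card F ^ 2 - 1) := by
  have : Fintype F := Fintype.ofFinite F
  have h1 := Cfsg.Agent.S0242.result (F := F) rfl 2 (by norm_num)
  have hq : 2 ≤ Fintype.card F := Fintype.one_lt_card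
  rw [Fin.prod_univ_two] at h1
  have h3 : Fintype.card F ^ 2 - Fintype.card F ^ 1 = (Fintype.card F - 1) * Fintype.card F := by
    rw [Nat.sub_mul, one_mul, pow_one, pow_two]
  simp only [Fin.val_zero, Fin.val_one, pow_zero] at h1
  rw [h3] at h1
  have h4 : (Fintype.card F - 1) * Nat.card (Matrix.SpecialLinearGroup (Fin 2) F) =
      (Fintype.card F - 1) * (Fintype.card F * (Fintype.card F ^ 2 - 1)) := by rw [h1]; ring
  rw [Nat.card_eq_fintype_card (α := F)]
  exact Nat.eq_of_mul_eq_mul_left (by omega) h4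

section KK

variable {F : Type u} {K : Type v} [Field F] [Field K] [Algebra F K]
variable (Ω : Type x)

theorem fpr_univ_of_closure {G : Type*} [Group G] [MulAction G Ω] {A : Set G}
    (h : Subgroup.closure A = ⊤) : fpr Ω A = fpr Ω (Set.univ : Set G) := by
  rw [← fpr_closure, h]; rfl

theorem fn_ker (f : Dual F K) (u : LinearMap.ker f) : fn f 0 (u.1, (0 : K)) = 0 := by
  have h : f u.1 = 0 := u.2
  simp [h]

/-- the homomorphism `u ↦ t_{(u, 0), f ∘ fst}`. -/
def shF (f : Dual F K) : Multiplicative (LinearMap.ker f) →* TV F (K × K) where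
  toFun u := tt (fn_ker f (Multiplicative.toAdd u))
  map_one' := by
    apply Subtype.ext
    refine LinearEquiv.ext fun x => ?_
    change transvection (fn_ker f 0) x = x
    rw [tv_apply]
    simp
  map_mul' a b := by
    apply Subtype.ext
    refine LinearEquiv.ext fun x => ?_
    have hb : f (Multiplicative.toAdd b : LinearMap.ker f).1 = 0 := (Multiplicative.toAdd b).2
    change transvection (fn_ker f (Multiplicative.toAdd a + Multiplicative.toAdd b)) x =
      transvection (fn_ker f (Multiplicative.toAdd a)) (transvection (fn_ker f (Multiplicative.toAdd b)) x)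
    rw [tv_apply, tv_apply, tv_apply]
    simp only [map_add, map_smul, fn_apply, hb, LinearMap.zero_apply, add_zero, smul_zero,
      Submodule.coe_add]
    ext
    · simp only [Prod.fst_add, Prod.smul_fst]
      module
    · simp

/-- **Step 3.** -/
theorem step3 [Finite F] [Finite K] [FiniteDimensional F K] [MulAction (TV F (K × K)) Ω] [Finite Ω] :
    fpr Ω (Set.range (actT F K)) ^ 2 ≤
      fpr Ω (Set.univ : Set (TV F (K × K))) + 1 / (Nat.card F : ℝ) ^ (finrank F K - 1) := by
  obtain ⟨f, -, hf1⟩ := exists_dual (F := F) (u := (0 : K)) (w := (1 : K)) (by simp)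
  have hf0 : f ≠ 0 := fun h => by rw [h] at hf1; exact zero_ne_one hf1
  have hcard : Nat.card (Multiplicative (LinearMap.ker f)) = Nat.card F ^ (finrank F K - 1) := by
    have h1 : finrank F (LinearMap.ker f) = finrank F K - 1 := by
      have h2 := LinearMap.finrank_range_add_finrank_ker f
      have h3 : LinearMap.range f = ⊤ := by
        rw [LinearMap.range_eq_top]
        intro c
        exact ⟨c • 1, by rw [map_smul, hf1, smul_eq_mul, mul_one]⟩
      rw [h3, finrank_top, finrank_self] at h2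
      omega
    rw [Nat.card_congr Multiplicative.toAdd, Module.natCard_eq_pow_finrank (K := F), h1]
  have h := cs_split_hom Ω (shF f) (Set.range (actT F K)) {1}
    (fpr Ω (Set.univ : Set (TV F (K × K)))) (fpr_nonneg _ _) ?_
  · refine h.trans ?_
    rw [hcard]
    simp
  · intro y hy
    apply le_of_eq
    apply fpr_univ_of_closure
    refine closure_eq_top_of_has fun p k => ?_
    have hy0 : (Multiplicative.toAdd y : LinearMap.ker f).1 ≠ 0 := by
      intro h0
      apply hy
      have : Multiplicative.toAdd y = 0 := Subtype.ext h0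
      exact this
    have hfy : f (Multiplicative.toAdd y : LinearMap.ker f).1 = 0 := (Multiplicative.toAdd y).2
    have hfu : fn f 0 ((Multiplicative.toAdd y : LinearMap.ker f).1, (0 : K)) = 0 := by simp [hfy]
    refine has_all_field hy0 hf0 hfu (fun g => ?_) (fun g => ?_) p k
    · exact ⟨actT F K g, Subgroup.subset_closure (Or.inl ⟨g, rfl⟩), rfl⟩
    · exact ⟨shF f y * actT F K g * (shF f y)⁻¹,
        Subgroup.subset_closure (Or.inr ⟨actT F K g, ⟨g, rfl⟩, rfl⟩), rfl⟩

/-- the transvections of the left block. -/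
def leftT (F : Type u) (K : Type v) [Field F] [Field K] [Algebra F K] : Set (TV F (K × K)) :=
  {t | ∃ (u : K) (f : Dual F K) (h : fn f 0 (u, (0 : K)) = 0), t = tt h}

theorem card_bad [Finite K] :
    Nat.card {g : Matrix.SpecialLinearGroup (Fin 2) K | ∃ i j, g.1 i j = 0} ≤
      4 * (Nat.card K * (Nat.card K - 1)) := by
  classical
  have := Fintype.ofFinite K
  -- each of the four sets injects into `K × {x // x ≠ 0}`
  have key : ∀ i j : Fin 2, Nat.card {g : Matrix.SpecialLinearGroup (Fin 2) K | g.1 i j = 0} ≤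
      Nat.card K * (Nat.card K - 1) := by
    intro i j
    have hc : Nat.card (K × {x : K // x ≠ 0}) = Nat.card K * (Nat.card K - 1) := by
      rw [Nat.card_prod]
      congr 1
      rw [Nat.card_eq_fintype_card, Nat.card_eq_fintype_card, Fintype.card_subtype_compl]
      simp
    rw [← hc]
    -- the entries
    have h0 : ∀ g : Matrix.SpecialLinearGroup (Fin 2) K,
        g.1 0 0 * g.1 1 1 - g.1 0 1 * g.1 1 0 = 1 := fun g => by
      have := g.2; rwa [Matrix.det_fin_two] at this
    have hext : ∀ g h : Matrix.SpecialLinearGroup (Fin 2) K, g.1 0 0 = h.1 0 0 → g.1 0 1 = h.1 0 1 →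
        g.1 1 0 = h.1 1 0 → g.1 1 1 = h.1 1 1 → g = h := by
      intro g h h1 h2 h3 h4
      apply Subtype.ext
      ext a b
      fin_cases a <;> fin_cases b <;> assumption
    fin_cases i <;> fin_cases j
    · -- `a = 0`: `(d, b)`, `b ≠ 0`
      refine Nat.card_le_card_of_injective (fun g => (g.1.1 1 1, (⟨g.1.1 0 1, fun hb => by
        have h1 := h0 g.1
        have h2 : g.1.1 0 0 = 0 := g.2
        rw [h2, hb, zero_mul, zero_mul, sub_zero] at h1
        exact zero_ne_one h1⟩ : {x : K // x ≠ 0}))) ?_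
      intro g h hgh
      simp only [Prod.mk.injEq, Subtype.mk.injEq] at hgh
      have g0 : g.1.1 0 0 = 0 := g.2
      have k0 : h.1.1 0 0 = 0 := h.2
      have g1 := h0 g.1
      have k1 := h0 h.1
      rw [g0] at g1
      rw [k0] at k1
      have hb : g.1.1 0 1 ≠ 0 := by
        intro hb; rw [hb] at g1; simp at g1
      apply Subtype.ext
      refine hext _ _ (by rw [g0, k0]) hgh.2 ?_ hgh.1
      rw [← hgh.2] at k1
      have : g.1.1 0 1 * (g.1.1 1 0 - h.1.1 1 0) = 0 := by linear_combination k1 - g1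
      exact sub_eq_zero.mp ((mul_eq_zero.mp this).resolve_left hb)
    · -- `b = 0`: `(c, a)`
      refine Nat.card_le_card_of_injective (fun g => (g.1.1 1 0, (⟨g.1.1 0 0, fun hb => by
        have h1 := h0 g.1
        have h2 : g.1.1 0 1 = 0 := g.2
        rw [h2, hb, zero_mul, zero_mul, sub_zero] at h1
        exact zero_ne_one h1⟩ : {x : K // x ≠ 0}))) ?_
      intro g h hgh
      simp only [Prod.mk.injEq, Subtype.mk.injEq] at hgh
      have g0 : g.1.1 0 1 = 0 := g.2
      have k0 : h.1.1 0 1 = 0 := h.2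
      have g1 := h0 g.1
      have k1 := h0 h.1
      rw [g0] at g1
      rw [k0] at k1
      have hb : g.1.1 0 0 ≠ 0 := by
        intro hb; rw [hb] at g1; simp at g1
      apply Subtype.ext
      refine hext _ _ hgh.2 (by rw [g0, k0]) hgh.1 ?_
      rw [← hgh.2] at k1
      have : g.1.1 0 0 * (g.1.1 1 1 - h.1.1 1 1) = 0 := by linear_combination g1 - k1
      exact sub_eq_zero.mp ((mul_eq_zero.mp this).resolve_left hb)
    · -- `c = 0`: `(b, a)`
      refine Nat.card_le_card_of_injective (fun g => (g.1.1 0 1, (⟨g.1.1 0 0, fun hb => by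
        have h1 := h0 g.1
        have h2 : g.1.1 1 0 = 0 := g.2
        rw [h2, hb, zero_mul, mul_zero, sub_zero] at h1
        exact zero_ne_one h1⟩ : {x : K // x ≠ 0}))) ?_
      intro g h hgh
      simp only [Prod.mk.injEq, Subtype.mk.injEq] at hgh
      have g0 : g.1.1 1 0 = 0 := g.2
      have k0 : h.1.1 1 0 = 0 := h.2
      have g1 := h0 g.1
      have k1 := h0 h.1
      rw [g0] at g1
      rw [k0] at k1
      have hb : g.1.1 0 0 ≠ 0 := by
        intro hb; rw [hb] at g1; simp at g1
      apply Subtype.ext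
      refine hext _ _ hgh.2 hgh.1 (by rw [g0, k0]) ?_
      rw [← hgh.2] at k1
      have : g.1.1 0 0 * (g.1.1 1 1 - h.1.1 1 1) = 0 := by linear_combination g1 - k1
      exact sub_eq_zero.mp ((mul_eq_zero.mp this).resolve_left hb)
    · -- `d = 0`: `(a, b)`
      refine Nat.card_le_card_of_injective (fun g => (g.1.1 0 0, (⟨g.1.1 0 1, fun hb => by
        have h1 := h0 g.1
        have h2 : g.1.1 1 1 = 0 := g.2
        rw [h2, hb, mul_zero, zero_mul, sub_zero] at h1
        exact zero_ne_one h1⟩ : {x : K // x ≠ 0}))) ?_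
      intro g h hgh
      simp only [Prod.mk.injEq, Subtype.mk.injEq] at hgh
      have g0 : g.1.1 1 1 = 0 := g.2
      have k0 : h.1.1 1 1 = 0 := h.2
      have g1 := h0 g.1
      have k1 := h0 h.1
      rw [g0] at g1
      rw [k0] at k1
      have hb : g.1.1 0 1 ≠ 0 := by
        intro hb; rw [hb] at g1; simp at g1
      apply Subtype.ext
      refine hext _ _ hgh.1 hgh.2 ?_ (by rw [g0, k0])
      rw [← hgh.2] at k1
      have : g.1.1 0 1 * (g.1.1 1 0 - h.1.1 1 0) = 0 := by linear_combination k1 - g1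
      exact sub_eq_zero.mp ((mul_eq_zero.mp this).resolve_left hb)
  have hsub : {g : Matrix.SpecialLinearGroup (Fin 2) K | ∃ i j, g.1 i j = 0} =
      (({g | g.1 0 0 = 0} ∪ {g | g.1 0 1 = 0}) ∪ {g | g.1 1 0 = 0}) ∪ {g | g.1 1 1 = 0} := by
    ext g
    simp only [Set.mem_ofPred_eq, Set.mem_union, Fin.exists_fin_two, or_assoc]
  rw [hsub, Nat.card_coe_set_eq]
  refine (Set.ncard_union_le _ _).trans ?_
  have e1 := Set.ncard_union_le (({g : Matrix.SpecialLinearGroup (Fin 2) K | g.1 0 0 = 0} ∪
    {g | g.1 0 1 = 0})) {g | g.1 1 0 = 0}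
  have e2 := Set.ncard_union_le ({g : Matrix.SpecialLinearGroup (Fin 2) K | g.1 0 0 = 0})
    {g | g.1 0 1 = 0}
  have f1 := key 0 0
  have f2 := key 0 1
  have f3 := key 1 0
  have f4 := key 1 1
  rw [Nat.card_coe_set_eq] at f1 f2 f3 f4
  omega

/-- **Step 4.** -/
theorem step4 [Finite F] [Finite K] [FiniteDimensional F K] (h3 : 3 ≤ finrank F K)
    [MulAction (TV F (K × K)) Ω] [Finite Ω] :
    fpr Ω (leftT F K) ^ 2 ≤
      fpr Ω (Set.univ : Set (TV F (K × K))) + 4 / (Nat.card K : ℝ) := by
  have h := cs_split_hom Ω (actT F K) (leftT F K)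
    {g : Matrix.SpecialLinearGroup (Fin 2) K | ∃ i j, g.1 i j = 0}
    (fpr Ω (Set.univ : Set (TV F (K × K)))) (fpr_nonneg _ _) ?_
  · refine h.trans ?_
    have hQ : 2 ≤ Nat.card K := Finite.one_lt_card
    have h1 : (Nat.card {g : Matrix.SpecialLinearGroup (Fin 2) K | ∃ i j, g.1 i j = 0} : ℝ) ≤
        4 * (Nat.card K * ((Nat.card K : ℝ) - 1)) := by
      have := card_bad (K := K)
      have h2 : ((Nat.card {g : Matrix.SpecialLinearGroup (Fin 2) K | ∃ i j, g.1 i j = 0} : ℕ) : ℝ) ≤
          ((4 * (Nat.card K * (Nat.card K - 1)) : ℕ) : ℝ) := by exact_mod_cast this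
      rw [Nat.cast_mul, Nat.cast_mul, Nat.cast_sub (by omega)] at h2
      simpa using h2
    have h2 : (Nat.card (Matrix.SpecialLinearGroup (Fin 2) K) : ℝ) =
        Nat.card K * ((Nat.card K : ℝ) ^ 2 - 1) := by
      rw [card_SL2, Nat.cast_mul, Nat.cast_sub (Nat.one_le_pow _ _ (by omega))]
      simp
    have hQ' : (2 : ℝ) ≤ Nat.card K := by exact_mod_cast hQ
    rw [h2]
    have h4 : (Nat.card {g : Matrix.SpecialLinearGroup (Fin 2) K | ∃ i j, g.1 i j = 0} : ℝ) /
        (Nat.card K * ((Nat.card K : ℝ) ^ 2 - 1)) ≤ 4 / (Nat.card K : ℝ) := by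
      rw [div_le_div_iff₀ (by nlinarith) (by linarith)]
      nlinarith [h1]
    linarith
  · intro g hg
    apply le_of_eq
    apply fpr_univ_of_closure
    refine closure_eq_top_of_has fun p k => ?_
    have hg' : ∀ i j, g.1 i j ≠ 0 := fun i j h0 => hg ⟨i, j, h0⟩
    refine has_all_act h3 g hg' (fun u f h => ?_) (fun u f h => ?_) p k
    · exact ⟨tt h, Subgroup.subset_closure (Or.inl ⟨u, f, h, rfl⟩), rfl⟩
    · have h1 : fn f 0 (u, (0 : K)) = 0 := by simpa using h
      refine ⟨actT F K g * tt h1 * (actT F K g)⁻¹,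
        Subgroup.subset_closure (Or.inr ⟨tt h1, ⟨u, f, h1, rfl⟩, rfl⟩), ?_⟩
      change act F K g * transvection h1 * (act F K g)⁻¹ = _
      refine LinearEquiv.ext fun x => ?_
      have e : (act F K g)⁻¹ x = (act F K g).symm x := rfl
      simp only [tv_apply, LinearEquiv.mul_apply, e, map_add, map_smul,
        LinearEquiv.apply_symm_apply, LinearMap.comp_apply, LinearEquiv.coe_coe]

end KK

end Cfsg.Agent.H917.FP
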