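import Cfsg.Agent.H917.FP.Small

/-!
From the large support bound and the bounded rank bound to `Strong` (S5717).
-/

set_option autoImplicit false
set_option linter.unusedSectionVars false

namespace Cfsg.Agent.H917.FP

open Module Matrix
open Cfsg.Agent.H254.BS.PI (supp FixLE Strong WeakM)

section Quasi

variable {M : Type} [Group M] [Finite M]

/-- a quasisimple group acts nontrivially enough. -/
theorem fpr_le_of_normal (hq : ∀ N : Subgroup M, N.Normal → ¬ N ≤ Subgroup.center M → N = ⊤)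
    (x : M) (hx : x ∉ Subgroup.center M) {Ω : Type} [Finite Ω] [MulAction M Ω]
    (hΩ : ∀ ω : Ω, ∃ g : M, g • ω ≠ ω) : fpr Ω {x} ≤ 1 - 1 / Nat.card M := by
  classical
  have := Fintype.ofFinite Ω
  have := Fintype.ofFinite M
  have hM : (0 : ℝ) < Nat.card M := by exact_mod_cast Nat.card_pos
  rcases Nat.eq_zero_or_pos (Nat.card Ω) with h0 | h0
  · have h1 : fpr Ω ({x} : Set M) = 0 := by unfold fpr; rw [h0]; simp
    rw [h1]
    have : (1 : ℝ) / Nat.card M ≤ 1 := by
      rw [div_le_one hM]; exact_mod_cast Nat.card_pos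
    linarith
  have hN : (0 : ℝ) < Nat.card Ω := by exact_mod_cast h0
  -- every point is moved by a conjugate
  have key : ∀ w : Ω, (1 : ℝ) ≤ ∑ g : M, (1 - ind Ω ((fun a => g * a * g⁻¹) '' {x}) w) := by
    intro w
    have hnc : Subgroup.normalClosure ({x} : Set M) = ⊤ := by
      apply hq _ inferInstance
      intro h
      exact hx (h (Subgroup.subset_normalClosure rfl))
    obtain ⟨g, hg⟩ : ∃ g : M, (g * x * g⁻¹) • w ≠ w := by
      by_contra hcon
      push Not at hcon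
      have h1 : Subgroup.normalClosure ({x} : Set M) ≤ MulAction.stabilizer M w := by
        rw [Subgroup.normalClosure, Subgroup.closure_le]
        intro y hy
        obtain ⟨z, hz, hc⟩ := Group.mem_conjugatesOfSet_iff.mp hy
        rw [Set.mem_singleton_iff] at hz
        subst hz
        obtain ⟨c, rfl⟩ := isConj_iff.mp hc
        exact hcon c
      obtain ⟨y, hy⟩ := hΩ w
      exact hy (h1 (hnc ▸ Subgroup.mem_top y))
    have hle : ∀ h : M, 0 ≤ 1 - ind Ω ((fun a => h * a * h⁻¹) '' {x}) w := by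
      intro h
      unfold ind
      split_ifs <;> norm_num
    have h2 : (1 : ℝ) - ind Ω ((fun a => g * a * g⁻¹) '' {x}) w = 1 := by
      unfold ind
      rw [if_neg, sub_zero]
      intro h
      exact hg (h _ ⟨x, rfl, rfl⟩)
    calc (1 : ℝ) = 1 - ind Ω ((fun a => g * a * g⁻¹) '' {x}) w := h2.symm
      _ ≤ _ := Finset.single_le_sum (f := fun g : M =>
          1 - ind Ω ((fun a => g * a * g⁻¹) '' {x}) w) (fun h _ => hle h) (Finset.mem_univ g)
  have hsum : (Nat.card Ω : ℝ) ≤ Nat.card M * (Nat.card Ω - fpr Ω {x} * Nat.card Ω) := by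
    calc (Nat.card Ω : ℝ) = ∑ _w : Ω, (1 : ℝ) := by
          rw [Finset.sum_const, nsmul_eq_mul, mul_one, Finset.card_univ,
            Nat.card_eq_fintype_card]
      _ ≤ ∑ w : Ω, ∑ g : M, (1 - ind Ω ((fun a => g * a * g⁻¹) '' {x}) w) :=
          Finset.sum_le_sum fun w _ => key w
      _ = ∑ g : M, ∑ w : Ω, (1 - ind Ω ((fun a => g * a * g⁻¹) '' {x}) w) :=
          Finset.sum_comm
      _ = ∑ _g : M, (Nat.card Ω - fpr Ω {x} * Nat.card Ω) := by
          refine Finset.sum_congr rfl fun g _ => ?_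
          rw [Finset.sum_sub_distrib, sum_ind, fpr_conj, Finset.sum_const, nsmul_eq_mul, mul_one,
            Finset.card_univ, Nat.card_eq_fintype_card (α := Ω)]
      _ = _ := by
          rw [Finset.sum_const, nsmul_eq_mul, Finset.card_univ, Nat.card_eq_fintype_card (α := M)]
  have h3 : (1 : ℝ) ≤ Nat.card M * (1 - fpr Ω {x}) := by
    have : (Nat.card Ω : ℝ) * 1 ≤ Nat.card Ω * (Nat.card M * (1 - fpr Ω {x})) := by
      calc (Nat.card Ω : ℝ) * 1 = Nat.card Ω := mul_one _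
        _ ≤ Nat.card M * (Nat.card Ω - fpr Ω {x} * Nat.card Ω) := hsum
        _ = _ := by ring
    exact le_of_mul_le_mul_left this hN
  have h4 : 1 / (Nat.card M : ℝ) ≤ 1 - fpr Ω {x} := by
    rw [div_le_iff₀ hM]; linarith
  linarith

end Quasi

section Str

variable {F : Type} [Field F] [Fintype F] {ι : Type} [Fintype ι] [DecidableEq ι]
  {M : Type} [Group M]

theorem strong_mono {C C' : ℕ} (h0 : 0 < C) (h : C ≤ C') {m : M → Matrix ι ι F}
    (hs : Strong C M m) : Strong C' M m := by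
  have hC : (0 : ℝ) < C := by exact_mod_cast h0
  have hCC : (C : ℝ) ≤ C' := by exact_mod_cast h
  constructor
  · intro x hx Ω _ _ hΩ
    have h1 := hs.fix x hx Ω hΩ
    calc fpr Ω {x} ^ C' * (Fintype.card F : ℝ) ^ supp (m x)
        ≤ fpr Ω {x} ^ C * (Fintype.card F : ℝ) ^ supp (m x) := by
          gcongr ?_ * _
          exact pow_le_pow_of_le_one (fpr_nonneg Ω _) (fpr_le_one Ω _) h
      _ ≤ C := h1
      _ ≤ C' := hCC
  · intro x hx Ω _ _ hΩ
    have h1 := hs.triv x hx Ω hΩ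
    have : (1 : ℝ) / C' ≤ 1 / C := by gcongr
    linarith

end Str

/-- **Strong bound, large dimension.** -/
theorem strong_large (s0 C1 : ℕ) (hC1 : 0 < C1) : ∃ N0 C : ℕ, 0 < C ∧
    ∀ (F : Type) [Field F] [Fintype F] (ι : Type) [Fintype ι] [DecidableEq ι]
      (M : Type) [Group M] [Finite M] (m : M →* Matrix ι ι F) (D : ℕ),
      N0 ≤ Fintype.card ι → 0 < D → LongOrb D m →
      (Fintype.card F) ^ (Fintype.card ι) ≤ D ^ 4 → LargeFix s0 C1 m →
      (∀ x : M, x ∉ Subgroup.center M → supp (m x) ≠ 0) → Strong C M m := by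
  obtain ⟨Ca, hCa, hA⟩ := strong_fix s0 C1 hC1
  obtain ⟨Nb, Cb, hCb, hB⟩ := strong_triv Ca hCa
  refine ⟨24 * s0 + Nb, Ca + Cb, by omega, ?_⟩
  intro F _ _ ι _ _ M _ _ m D hN hD0 hD hDq hL hsupp
  constructor
  · intro x hx Ω _ _ hΩ
    have h1 := hA F ι M m D (by omega) hD0 hD hDq hL x
      (Nat.one_le_iff_ne_zero.mpr (hsupp x hx)) Ω hΩ
    calc fpr Ω {x} ^ (Ca + Cb) * (Fintype.card F : ℝ) ^ supp (m x)
        ≤ fpr Ω {x} ^ Ca * (Fintype.card F : ℝ) ^ supp (m x) := by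
          gcongr ?_ * _
          exact pow_le_pow_of_le_one (fpr_nonneg Ω _) (fpr_le_one Ω _) (by omega)
      _ ≤ Ca := h1
      _ ≤ ((Ca + Cb : ℕ) : ℝ) := by exact_mod_cast Nat.le_add_right _ _
  · intro x hx Ω _ _ hΩ
    have h1 := hB F ι M m D (by omega) hD0 hD hDq Ω
      (fun z hz => hA F ι M m D (by omega) hD0 hD hDq hL z hz Ω hΩ) x
      (Nat.one_le_iff_ne_zero.mpr (hsupp x hx))
    have hCb' : (0 : ℝ) < Cb := by exact_mod_cast hCb
    have : (1 : ℝ) / ((Ca + Cb : ℕ) : ℝ) ≤ 1 / Cb := by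
      gcongr
      omega
    linarith

/-- **Strong bound, bounded dimension.** -/
theorem strong_small (N0 C2 : ℕ) (hC2 : 0 < C2) : ∃ C : ℕ, 0 < C ∧
    ∀ (F : Type) [Field F] [Fintype F] (ι : Type) [Fintype ι] [DecidableEq ι]
      (M : Type) [Group M] [Finite M] (m : M → Matrix ι ι F),
      Fintype.card ι ≤ N0 → Function.Injective m → WeakM C2 M (Fintype.card F) →
      (∀ N : Subgroup M, N.Normal → ¬ N ≤ Subgroup.center M → N = ⊤) → Strong C M m := by
  refine ⟨C2 * N0 + C2 ^ N0 + (C2 * 2 ^ C2) ^ (N0 ^ 2) + 2, by omega, ?_⟩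
  intro F _ _ ι _ _ M _ _ m hN hm hW hqs
  set C : ℕ := C2 * N0 + C2 ^ N0 + (C2 * 2 ^ C2) ^ (N0 ^ 2) + 2 with hC
  have hq2 : (2 : ℝ) ≤ Fintype.card F := by exact_mod_cast Fintype.one_lt_card
  have hq0 : (0 : ℝ) < Fintype.card F := by linarith
  have hq1 : (1 : ℝ) ≤ Fintype.card F := by linarith
  have hC2' : (0 : ℝ) < C2 := by exact_mod_cast hC2
  constructor
  · intro x hx Ω _ _ hΩ
    have h1 := hW x hx Ω hΩ
    have hf0 := fpr_nonneg Ω ({x} : Set M)
    have hf1 := fpr_le_one Ω ({x} : Set M)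
    calc fpr Ω {x} ^ C * (Fintype.card F : ℝ) ^ supp (m x)
        ≤ fpr Ω {x} ^ (C2 * N0) * (Fintype.card F : ℝ) ^ N0 := by
          gcongr ?_ * ?_
          · exact pow_le_pow_of_le_one hf0 hf1 (by omega)
          · exact pow_le_pow_right₀ hq1 ((supp_le_card _).trans hN)
      _ = (fpr Ω {x} ^ C2 * Fintype.card F) ^ N0 := by rw [pow_mul, mul_pow]
      _ ≤ (C2 : ℝ) ^ N0 := by gcongr
      _ = ((C2 ^ N0 : ℕ) : ℝ) := by push_cast; rfl
      _ ≤ C := by exact_mod_cast (show C2 ^ N0 ≤ C by omega)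
  · intro x hx Ω _ _ hΩ
    have h1 := hW x hx Ω hΩ
    have hf0 := fpr_nonneg Ω ({x} : Set M)
    have hC0 : (0 : ℝ) < C := by exact_mod_cast (show 0 < C by omega)
    have hCge2 : (2 : ℝ) ≤ C := by exact_mod_cast (show 2 ≤ C by omega)
    by_cases hq : C2 * 2 ^ C2 ≤ Fintype.card F
    · have hq' : (C2 : ℝ) * 2 ^ C2 ≤ Fintype.card F := by exact_mod_cast hq
      have h2 : fpr Ω {x} ^ C2 * 2 ^ C2 ≤ 1 := by
        have h3 : fpr Ω {x} ^ C2 * (C2 * 2 ^ C2) ≤ C2 := le_trans (by gcongr) h1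
        have h4 : (C2 : ℝ) * (fpr Ω {x} ^ C2 * 2 ^ C2) ≤ C2 * 1 := by linarith
        exact le_of_mul_le_mul_left h4 hC2'
      rw [← mul_pow] at h2
      have h7 : fpr Ω {x} * 2 ≤ 1 := by
        by_contra hcon
        rw [not_le] at hcon
        exact absurd h2 (not_le.mpr (one_lt_pow₀ hcon hC2.ne'))
      have h8 : (1 : ℝ) / C ≤ 1 / 2 := by gcongr
      linarith
    · rw [not_le] at hq
      have h2 := fpr_le_of_normal hqs x hx hΩ
      have hMle : Nat.card M ≤ C := by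
        have h3 : Nat.card M ≤ Nat.card (Matrix ι ι F) := Nat.card_le_card_of_injective m hm
        have h4 : Nat.card (Matrix ι ι F) = Fintype.card F ^ (Fintype.card ι ^ 2) := by
          have e : Nat.card (Matrix ι ι F) = Nat.card (ι → ι → F) := rfl
          rw [e, Nat.card_fun, Nat.card_fun, Nat.card_eq_fintype_card, Nat.card_eq_fintype_card,
            ← pow_mul, sq]
        have h5 : Fintype.card F ^ (Fintype.card ι ^ 2) ≤ (C2 * 2 ^ C2) ^ (N0 ^ 2) := by
          calc Fintype.card F ^ (Fintype.card ι ^ 2)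
              ≤ Fintype.card F ^ (N0 ^ 2) :=
                Nat.pow_le_pow_right Fintype.card_pos (Nat.pow_le_pow_left hN 2)
            _ ≤ _ := Nat.pow_le_pow_left hq.le _
        omega
      have hMpos : (0 : ℝ) < Nat.card M := by exact_mod_cast Nat.card_pos
      have h6 : (1 : ℝ) / C ≤ 1 / Nat.card M := by
        gcongr
      linarith

/-- **Assembly of the strong bound**: large support, bounded rank, long orbits. -/
theorem strong_all (s0 C1 : ℕ) (hC1 : 0 < C1) : ∃ N0 : ℕ, 100 ≤ N0 ∧ ∀ C2 : ℕ, 0 < C2 →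
    ∃ C : ℕ, 0 < C ∧
    ∀ (F : Type) [Field F] [Fintype F] (ι : Type) [Fintype ι] [DecidableEq ι]
      (M : Type) [Group M] [Finite M] (m : M →* Matrix ι ι F),
      Function.Injective m → LargeFix s0 C1 m →
      (∀ x : M, x ∉ Subgroup.center M → supp (m x) ≠ 0) →
      (∀ N : Subgroup M, N.Normal → ¬ N ≤ Subgroup.center M → N = ⊤) →
      (N0 < Fintype.card ι → ∃ D : ℕ, 0 < D ∧ LongOrb D m ∧
        (Fintype.card F) ^ (Fintype.card ι) ≤ D ^ 4) →
      (Fintype.card ι ≤ N0 → WeakM C2 M (Fintype.card F)) → Strong C M m := by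
  obtain ⟨N0, Ca, hCa, hA⟩ := strong_large s0 C1 hC1
  refine ⟨N0 + 100, by omega, fun C2 hC2 => ?_⟩
  obtain ⟨Cb, hCb, hB⟩ := strong_small (N0 + 100) C2 hC2
  refine ⟨Ca + Cb, by omega, ?_⟩
  intro F _ _ ι _ _ M _ _ m hm hL hsupp hqs hD hW
  by_cases hN : Fintype.card ι ≤ N0 + 100
  · exact strong_mono hCb (by omega) (hB F ι M m hN hm (hW hN) hqs)
  · rw [not_le] at hN
    obtain ⟨D, hD0, hDo, hDq⟩ := hD hN
    exact strong_mono hCa (by omega) (hA F ι M m D (by omega) hD0 hDo hDq hL hsupp)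

end Cfsg.Agent.H917.FP
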